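import Mathlib

/-! Base change of fibre products of rings. -/

set_option autoImplicit false
set_option backward.isDefEq.respectTransparency false
set_option linter.style.haveILetI false

universe u

open CategoryTheory Limits TensorProduct

namespace Groth.Agent.Pinch

/-- A fibre product of algebras along a surjection, over a base ring. -/
structure AlgSq (K R A' B A : Type u) [CommRing K] [CommRing R] [CommRing A'] [CommRing B] [CommRing A]
    [Algebra K R] [Algebra K A'] [Algebra K B] [Algebra K A] where
  α : R →ₐ[K] A'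
  β : R →ₐ[K] B
  γ : A' →ₐ[K] A
  δ : B →ₐ[K] A
  w : ∀ r, γ (α r) = δ (β r)
  surj : Function.Surjective γ
  inj : ∀ r r', α r = α r' → β r = β r' → r = r'
  ex : ∀ a b, γ a = δ b → ∃ r, α r = a ∧ β r = b

namespace AlgSq

variable {K R A' B A : Type u} [CommRing K] [CommRing R] [CommRing A'] [CommRing B] [CommRing A]
  [Algebra K R] [Algebra K A'] [Algebra K B] [Algebra K A] (sq : AlgSq K R A' B A)

/-- The map to the product. -/
def u : R →ₗ[K] A' × B := sq.α.toLinearMap.prod sq.β.toLinearMap

/-- The difference map. -/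
def d : A' × B →ₗ[K] A := sq.γ.toLinearMap.coprod (-sq.δ.toLinearMap)

theorem u_injective : Function.Injective sq.u := fun r r' h =>
  sq.inj r r' (congrArg Prod.fst h) (congrArg Prod.snd h)

theorem d_surjective : Function.Surjective sq.d := fun a => by
  obtain ⟨a', rfl⟩ := sq.surj a
  exact ⟨(a', 0), by simp [d]⟩

theorem exact : Function.Exact sq.u sq.d := fun z => by
  refine ⟨fun hz => ?_, ?_⟩
  · obtain ⟨r, h1, h2⟩ := sq.ex z.1 z.2 (eq_of_sub_eq_zero (by rw [sub_eq_add_neg]; exact hz))
    exact ⟨r, Prod.ext h1 h2⟩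
  · rintro ⟨r, rfl⟩
    show sq.γ (sq.α r) + -sq.δ (sq.β r) = 0
    rw [sq.w, add_neg_cancel]

/-- The sections stay jointly injective after base change. -/
def InjBC (K' : Type u) [CommRing K'] [Algebra K K'] : Prop := Function.Injective (sq.u.lTensor K')

theorem injBC_of_flat (K' : Type u) [CommRing K'] [Algebra K K'] [Module.Flat K K'] : sq.InjBC K' :=
  Module.Flat.lTensor_preserves_injective_linearMap sq.u sq.u_injective

theorem injBC_of_flat_corner (K' : Type u) [CommRing K'] [Algebra K K'] [Module.Flat K A] : sq.InjBC K' :=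
  LinearMap.lTensor_injective_of_exact_of_flat (M := R) sq.d sq.d_surjective sq.u sq.u_injective sq.exact K'

theorem injBC_of_projective_coker (K' : Type u) [CommRing K'] [Algebra K K'] (hδ : Function.Injective sq.δ)
    [Module.Projective K (A ⧸ LinearMap.range sq.δ.toLinearMap)] : sq.InjBC K' := by
  obtain ⟨s, hs⟩ := Module.projective_lifting_property
    ((LinearMap.range sq.δ.toLinearMap).mkQ ∘ₗ sq.γ.toLinearMap) (LinearMap.id)
    ((Submodule.mkQ_surjective _).comp sq.surj)
  -- a retraction of `R → A'`
  let e : A' →ₗ[K] A' := LinearMap.id - s ∘ₗ (LinearMap.range sq.δ.toLinearMap).mkQ ∘ₗ sq.γ.toLinearMap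
  have he : ∀ a, ∃ b, sq.γ (e a) = sq.δ b := fun a => by
    have h := congr($hs ((LinearMap.range sq.δ.toLinearMap).mkQ (sq.γ a)))
    simp only [LinearMap.comp_apply, LinearMap.id_apply, AlgHom.toLinearMap_apply] at h
    obtain ⟨b, hb⟩ : sq.γ (e a) ∈ LinearMap.range sq.δ.toLinearMap := by
      rw [← Submodule.Quotient.mk_eq_zero]
      show (LinearMap.range sq.δ.toLinearMap).mkQ (sq.γ (e a)) = 0
      simp only [e, LinearMap.sub_apply, LinearMap.id_apply, LinearMap.comp_apply, AlgHom.toLinearMap_apply, map_sub]
      rw [h, sub_self]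
    exact ⟨b, hb.symm⟩
  choose bb hbb using he
  choose rr hra hrb using fun a => sq.ex (e a) (bb a) (hbb a)
  have huniq : ∀ a r, sq.α r = e a → rr a = r := fun a r h => sq.inj _ _ ((hra a).trans h.symm) (hδ (by
    rw [← sq.w, ← sq.w, hra, h]))
  let ρ : A' →ₗ[K] R :=
    { toFun := rr
      map_add' := fun x y => huniq _ _ (by rw [map_add, hra, hra, map_add])
      map_smul' := fun c x => huniq _ _ (by rw [map_smul, hra, RingHom.id_apply, map_smul]) }
  have hρ : (ρ ∘ₗ LinearMap.fst K A' B) ∘ₗ sq.u = LinearMap.id := LinearMap.ext fun r => huniq _ _ (by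
    have h0 : (LinearMap.range sq.δ.toLinearMap).mkQ (sq.γ (sq.α r)) = 0 :=
      (Submodule.Quotient.mk_eq_zero _).2 ⟨sq.β r, (sq.w r).symm⟩
    show sq.α r = e (sq.α r)
    simp only [e, LinearMap.sub_apply, LinearMap.id_apply, LinearMap.comp_apply, AlgHom.toLinearMap_apply, h0,
      map_zero, sub_zero])
  refine Function.Injective.of_comp (f := (ρ ∘ₗ LinearMap.fst K A' B).lTensor K') ?_
  rw [← LinearMap.coe_comp, ← LinearMap.lTensor_comp, hρ, LinearMap.lTensor_id]
  exact Function.injective_id

/-- Base change of a fibre square of rings. -/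
theorem isPullback_tensor (K' : Type u) [CommRing K'] [Algebra K K'] (h : sq.InjBC K') :
    IsPullback (C := CommRingCat.{u})
      (CommRingCat.ofHom (Algebra.TensorProduct.map (AlgHom.id K K') sq.α).toRingHom)
      (CommRingCat.ofHom (Algebra.TensorProduct.map (AlgHom.id K K') sq.β).toRingHom)
      (CommRingCat.ofHom (Algebra.TensorProduct.map (AlgHom.id K K') sq.γ).toRingHom)
      (CommRingCat.ofHom (Algebra.TensorProduct.map (AlgHom.id K K') sq.δ).toRingHom) := by
  let e := TensorProduct.prodRight K K K' A' B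
  have hfst : ∀ z, e (sq.u.lTensor K' z) = (Algebra.TensorProduct.map (AlgHom.id K K') sq.α z,
      Algebra.TensorProduct.map (AlgHom.id K K') sq.β z) := fun z => by
    induction z using TensorProduct.induction_on with
    | zero => simp only [map_zero]; rfl
    | tmul r b => simp [e, u]
    | add a b ha hb => simp [map_add, ha, hb]
  have hde : ∀ z, sq.d.lTensor K' z = Algebra.TensorProduct.map (AlgHom.id K K') sq.γ (e z).1
      - Algebra.TensorProduct.map (AlgHom.id K K') sq.δ (e z).2 := fun z => by
    induction z using TensorProduct.induction_on with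
    | zero => simp
    | tmul r b => simp [e, d, sub_eq_add_neg, TensorProduct.tmul_add, TensorProduct.tmul_neg]
    | add a b ha hb => rw [map_add, ha, hb, map_add, Prod.fst_add, Prod.snd_add, map_add, map_add]; abel
  have hw : ∀ z, Algebra.TensorProduct.map (AlgHom.id K K') sq.γ (Algebra.TensorProduct.map (AlgHom.id K K') sq.α z) =
      Algebra.TensorProduct.map (AlgHom.id K K') sq.δ (Algebra.TensorProduct.map (AlgHom.id K K') sq.β z) := fun z => by
    induction z using TensorProduct.induction_on with
    | zero => simp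
    | tmul r b => simp [sq.w]
    | add a b ha hb => simp [map_add, ha, hb]
  refine IsPullback.of_map (forget CommRingCat.{u}) (CommRingCat.hom_ext (RingHom.ext hw)) ?_
  refine (Types.isPullback_iff _ _ _ _).2 ⟨ConcreteCategory.hom_ext _ _ hw, fun x y hxy => ?_, fun x y hxy => ?_⟩
  · apply h
    apply e.injective
    rw [hfst, hfst]
    exact Prod.ext hxy.1 hxy.2
  · obtain ⟨z, hz⟩ := (lTensor_exact K' sq.exact sq.d_surjective (e.symm (x, y))).1 (by
      rw [hde, e.apply_symm_apply, sub_eq_zero]
      exact hxy)
    have := hfst z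
    rw [hz, e.apply_symm_apply] at this
    exact ⟨z, (congrArg Prod.fst this).symm, (congrArg Prod.snd this).symm⟩

theorem flat (sq : AlgSq K R A' B A) [Module.Flat K A'] [Module.Flat K B] [Module.Flat K A] : Module.Flat K R := by
  rw [Module.Flat.iff_lTensor_preserves_injective_linearMap]
  intro X Y _ _ _ _ f hf
  have hpure := LinearMap.lTensor_injective_of_exact_of_flat (M := R) sq.d sq.d_surjective sq.u sq.u_injective sq.exact
  refine Function.Injective.of_comp (f := sq.u.rTensor Y) ?_
  rw [← LinearMap.coe_comp, LinearMap.rTensor_comp_lTensor, ← LinearMap.lTensor_comp_rTensor, LinearMap.coe_comp]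
  have hprod : Function.Injective (f.lTensor (A' × B)) := fun a b h => by
    have hnat : ∀ w, TensorProduct.prodLeft K K A' B Y (f.lTensor (A' × B) w) =
        (f.lTensor A' (TensorProduct.prodLeft K K A' B X w).1, f.lTensor B (TensorProduct.prodLeft K K A' B X w).2) := fun w => by
      induction w using TensorProduct.induction_on with
      | zero => rw [map_zero, map_zero, map_zero, Prod.fst_zero, Prod.snd_zero, map_zero, map_zero]; rfl
      | tmul z m => obtain ⟨z₁, z₂⟩ := z; simp
      | add a b ha hb => simp [map_add, ha, hb]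
    have h' := congrArg (TensorProduct.prodLeft K K A' B Y) h
    rw [hnat, hnat] at h'
    exact (TensorProduct.prodLeft K K A' B X).injective (Prod.ext
      (Module.Flat.lTensor_preserves_injective_linearMap f hf (congrArg Prod.fst h'))
      (Module.Flat.lTensor_preserves_injective_linearMap f hf (congrArg Prod.snd h')))
  exact hprod.comp ((LinearMap.lTensor_inj_iff_rTensor_inj X sq.u).1 (hpure X))

end AlgSq

/-- The algebra map of a pushout identified with a tensor product. -/
theorem isPullback_of_pushouts {K K' R A' B A R' A'' B' A₀ : CommRingCat.{u}} (φ : K ⟶ K')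
    {kR : K ⟶ R} {kA' : K ⟶ A'} {kB : K ⟶ B} {kA : K ⟶ A} {α : R ⟶ A'} {β : R ⟶ B} {γ : A' ⟶ A} {δ : B ⟶ A}
    (hα : kR ≫ α = kA') (hβ : kR ≫ β = kB) (hγ : kA' ≫ γ = kA) (hδ : kB ≫ δ = kA)
    (sq : IsPullback α β γ δ) (hs : Function.Surjective γ.hom)
    (hinj : ∀ (_ : Algebra K K') (_ : Algebra K R) (_ : Algebra K A') (_ : Algebra K B) (_ : Algebra K A)
      (q : AlgSq K R A' B A), algebraMap K K' = φ.hom → algebraMap K A = kA.hom → algebraMap K R = kR.hom →
      q.δ.toRingHom = δ.hom → q.InjBC K')
    {iR : R ⟶ R'} {jR : K' ⟶ R'} (pR : IsPushout kR φ iR jR)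
    {iA' : A' ⟶ A''} {jA' : K' ⟶ A''} (pA' : IsPushout kA' φ iA' jA')
    {iB : B ⟶ B'} {jB : K' ⟶ B'} (pB : IsPushout kB φ iB jB)
    {iA : A ⟶ A₀} {jA : K' ⟶ A₀} (pA : IsPushout kA φ iA jA)
    {α' : R' ⟶ A''} {β' : R' ⟶ B'} {γ' : A'' ⟶ A₀} {δ' : B' ⟶ A₀}
    (a1 : iR ≫ α' = α ≫ iA') (a2 : jR ≫ α' = jA') (b1 : iR ≫ β' = β ≫ iB) (b2 : jR ≫ β' = jB)
    (c1 : iA' ≫ γ' = γ ≫ iA) (c2 : jA' ≫ γ' = jA) (d1 : iB ≫ δ' = δ ≫ iA) (d2 : jB ≫ δ' = jA) :
    IsPullback α' β' γ' δ' := by
  algebraize [φ.hom, kR.hom, kA'.hom, kB.hom, kA.hom]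
  have hT := sq.map (forget CommRingCat.{u})
  let q : AlgSq K R A' B A :=
    { α := { α.hom with commutes' := fun c => ConcreteCategory.congr_hom hα c }
      β := { β.hom with commutes' := fun c => ConcreteCategory.congr_hom hβ c }
      γ := { γ.hom with commutes' := fun c => ConcreteCategory.congr_hom hγ c }
      δ := { δ.hom with commutes' := fun c => ConcreteCategory.congr_hom hδ c }
      w := fun r => ConcreteCategory.congr_hom sq.w r
      surj := hs
      inj := fun r r' h1 h2 => Types.ext_of_isPullback hT h1 h2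
      ex := fun a b h => Types.exists_of_isPullback hT a b h }
  have hq := q.isPullback_tensor K' (hinj inferInstance inferInstance inferInstance inferInstance inferInstance q
    rfl rfl rfl rfl)
  have tR := (CommRingCat.isPushout_tensorProduct K K' R).flip
  have tA' := (CommRingCat.isPushout_tensorProduct K K' A').flip
  have tB := (CommRingCat.isPushout_tensorProduct K K' B).flip
  have tA := (CommRingCat.isPushout_tensorProduct K K' A).flip
  refine hq.of_iso (IsPushout.isoIsPushout _ _ tR pR) (IsPushout.isoIsPushout _ _ tA' pA')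
    (IsPushout.isoIsPushout _ _ tB pB) (IsPushout.isoIsPushout _ _ tA pA) ?_ ?_ ?_ ?_
  · apply tR.hom_ext
    · have e1 : CommRingCat.ofHom (Algebra.TensorProduct.includeRight (R := K) (A := K') (B := R)).toRingHom ≫
          CommRingCat.ofHom (Algebra.TensorProduct.map (AlgHom.id K K') q.α).toRingHom =
          α ≫ CommRingCat.ofHom (Algebra.TensorProduct.includeRight (R := K) (A := K') (B := A')).toRingHom := by
        ext x; simp [q]
      rw [reassoc_of% e1, IsPushout.inl_isoIsPushout_hom_assoc, a1]
      exact congrArg _ (IsPushout.inl_isoIsPushout_hom _ _ tA' pA')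
    · have e2 : CommRingCat.ofHom (Algebra.TensorProduct.includeLeftRingHom (R := K) (A := K') (B := R)) ≫
          CommRingCat.ofHom (Algebra.TensorProduct.map (AlgHom.id K K') q.α).toRingHom =
          CommRingCat.ofHom (Algebra.TensorProduct.includeLeftRingHom (R := K) (A := K') (B := A')) := by
        ext x; simp
      rw [reassoc_of% e2, IsPushout.inr_isoIsPushout_hom_assoc, a2]
      exact IsPushout.inr_isoIsPushout_hom _ _ tA' pA'
  · apply tR.hom_ext
    · have e1 : CommRingCat.ofHom (Algebra.TensorProduct.includeRight (R := K) (A := K') (B := R)).toRingHom ≫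
          CommRingCat.ofHom (Algebra.TensorProduct.map (AlgHom.id K K') q.β).toRingHom =
          β ≫ CommRingCat.ofHom (Algebra.TensorProduct.includeRight (R := K) (A := K') (B := B)).toRingHom := by
        ext x; simp [q]
      rw [reassoc_of% e1, IsPushout.inl_isoIsPushout_hom_assoc, b1]
      exact congrArg _ (IsPushout.inl_isoIsPushout_hom _ _ tB pB)
    · have e2 : CommRingCat.ofHom (Algebra.TensorProduct.includeLeftRingHom (R := K) (A := K') (B := R)) ≫
          CommRingCat.ofHom (Algebra.TensorProduct.map (AlgHom.id K K') q.β).toRingHom =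
          CommRingCat.ofHom (Algebra.TensorProduct.includeLeftRingHom (R := K) (A := K') (B := B)) := by
        ext x; simp
      rw [reassoc_of% e2, IsPushout.inr_isoIsPushout_hom_assoc, b2]
      exact IsPushout.inr_isoIsPushout_hom _ _ tB pB
  · apply tA'.hom_ext
    · have e1 : CommRingCat.ofHom (Algebra.TensorProduct.includeRight (R := K) (A := K') (B := A')).toRingHom ≫
          CommRingCat.ofHom (Algebra.TensorProduct.map (AlgHom.id K K') q.γ).toRingHom =
          γ ≫ CommRingCat.ofHom (Algebra.TensorProduct.includeRight (R := K) (A := K') (B := A)).toRingHom := by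
        ext x; simp [q]
      rw [reassoc_of% e1, IsPushout.inl_isoIsPushout_hom_assoc, c1]
      exact congrArg _ (IsPushout.inl_isoIsPushout_hom _ _ tA pA)
    · have e2 : CommRingCat.ofHom (Algebra.TensorProduct.includeLeftRingHom (R := K) (A := K') (B := A')) ≫
          CommRingCat.ofHom (Algebra.TensorProduct.map (AlgHom.id K K') q.γ).toRingHom =
          CommRingCat.ofHom (Algebra.TensorProduct.includeLeftRingHom (R := K) (A := K') (B := A)) := by
        ext x; simp
      rw [reassoc_of% e2, IsPushout.inr_isoIsPushout_hom_assoc, c2]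
      exact IsPushout.inr_isoIsPushout_hom _ _ tA pA
  · apply tB.hom_ext
    · have e1 : CommRingCat.ofHom (Algebra.TensorProduct.includeRight (R := K) (A := K') (B := B)).toRingHom ≫
          CommRingCat.ofHom (Algebra.TensorProduct.map (AlgHom.id K K') q.δ).toRingHom =
          δ ≫ CommRingCat.ofHom (Algebra.TensorProduct.includeRight (R := K) (A := K') (B := A)).toRingHom := by
        ext x; simp [q]
      rw [reassoc_of% e1, IsPushout.inl_isoIsPushout_hom_assoc, d1]
      exact congrArg _ (IsPushout.inl_isoIsPushout_hom _ _ tA pA)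
    · have e2 : CommRingCat.ofHom (Algebra.TensorProduct.includeLeftRingHom (R := K) (A := K') (B := B)) ≫
          CommRingCat.ofHom (Algebra.TensorProduct.map (AlgHom.id K K') q.δ).toRingHom =
          CommRingCat.ofHom (Algebra.TensorProduct.includeLeftRingHom (R := K) (A := K') (B := A)) := by
        ext x; simp
      rw [reassoc_of% e2, IsPushout.inr_isoIsPushout_hom_assoc, d2]
      exact IsPushout.inr_isoIsPushout_hom _ _ tA pA

end Groth.Agent.Pinch
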