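import Groth.Agent.Pinch.Props
import Groth.Agent.Pinch.RingBC

/-! Base change of pinched schemes. -/

set_option autoImplicit false
set_option backward.isDefEq.respectTransparency false
set_option linter.style.haveILetI false

universe u

open CategoryTheory Limits AlgebraicGeometry TopologicalSpace Opposite

namespace Groth.Agent.Pinch

variable {Z X Y P : Scheme.{u}} {i : Z ⟶ X} {j : Z ⟶ Y} {a : X ⟶ P} {b : Y ⟶ P}

/-- The square of sections over an open subset, for any names of the preimages. -/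
theorem isPullback_appLE (h : IsPinch i j a b) (W : P.Opens) (A : X.Opens) (B : Y.Opens) (C : Z.Opens)
    (hA : A = a ⁻¹ᵁ W) (hB : B = b ⁻¹ᵁ W) (hC : C = i ⁻¹ᵁ A) (hC' : C ≤ j ⁻¹ᵁ B) :
    IsPullback (a.appLE W A hA.le) (b.appLE W B hB.le) (i.appLE A C hC.le) (j.appLE B C hC') :=
  secPB_le (isPinch_iff_psh.1 h) W A B C hA hB hC hC'

theorem le_preimage (w : i ≫ a = j ≫ b) (W : P.Opens) : i ⁻¹ᵁ (a ⁻¹ᵁ W) ≤ j ⁻¹ᵁ (b ⁻¹ᵁ W) := (preimage_eq w W).le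

/-- Being a pinching is local on the target, and is detected on affine pieces by the rings of sections. -/
theorem isPinch_of_cover [IsClosedImmersion i] (w : i ≫ a = j ≫ b) {ι : Type*} (W : ι → P.Opens)
    (hcov : iSup W = ⊤) (hgood : ∀ k, Good i a b (W k))
    (hsq : ∀ k, IsPullback (a.appLE (W k) (a ⁻¹ᵁ W k) le_rfl) (b.appLE (W k) (b ⁻¹ᵁ W k) le_rfl)
      (i.appLE (a ⁻¹ᵁ W k) (i ⁻¹ᵁ (a ⁻¹ᵁ W k)) le_rfl)
      (j.appLE (b ⁻¹ᵁ W k) (i ⁻¹ᵁ (a ⁻¹ᵁ W k)) (le_preimage w (W k)))) :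
    IsPinch i j a b := by
  have hc : HasCharts i j := fun y => by
    obtain ⟨k, hk⟩ := Opens.mem_iSup.1 (hcov ▸ trivial : b y ∈ iSup W)
    exact ⟨_, _, ⟨(hgood k).affX, (hgood k).affY, (hgood k).affZ, preimage_eq w (W k)⟩, hk⟩
  obtain ⟨P', a', b', h'⟩ := exists_pinch hc
  have hpo := isPushout_of_isPinch h'
  let φ : P' ⟶ P := hpo.desc a b w
  have ha : a' ≫ φ = a := hpo.inl_desc a b w
  have hb : b' ≫ φ = b := hpo.inr_desc a b w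
  have : IsIso φ := by
    refine IsZariskiLocalAtTarget.of_iSup_eq_top (P := MorphismProperty.isomorphisms Scheme.{u}) W hcov fun k => ?_
    obtain ⟨W', hW', hWX, hWY⟩ := exists_chart_opens h'
      (⟨(hgood k).affX, (hgood k).affY, (hgood k).affZ, preimage_eq w (W k)⟩ : Chart i j (a ⁻¹ᵁ W k) (b ⁻¹ᵁ W k))
    have hpre : φ ⁻¹ᵁ W k = W' := by
      ext p
      rcases surj_of_top (top_of_isPinch h') p with ⟨x, rfl⟩ | ⟨y, rfl⟩
      · show φ (a' x) ∈ W k ↔ x ∈ a' ⁻¹ᵁ W'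
        rw [hWX, ← Scheme.Hom.comp_apply, ha]; rfl
      · show φ (b' y) ∈ W k ↔ y ∈ b' ⁻¹ᵁ W'
        rw [hWY, ← Scheme.Hom.comp_apply, hb]; rfl
    haveI : IsAffine (W k : Scheme.{u}) := (hgood k).affW
    haveI : IsAffine (φ ⁻¹ᵁ W k : Scheme.{u}) := hpre ▸ hW'
    have sq' := isPullback_appLE h' W' (a ⁻¹ᵁ W k) (b ⁻¹ᵁ W k) (i ⁻¹ᵁ (a ⁻¹ᵁ W k)) hWX.symm hWY.symm rfl
      (le_preimage w (W k))
    haveI : IsIso (φ.appLE (W k) W' hpre.ge) := by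
      refine isIso_of_squares (hsq k) sq' _ (𝟙 _) (𝟙 _) (𝟙 _) ?_ ?_ ?_ ?_
      · rw [Scheme.Hom.appLE_comp_appLE, Category.comp_id]
        simp only [ha]
      · rw [Scheme.Hom.appLE_comp_appLE, Category.comp_id]
        simp only [hb]
      · simp
      · simp
    have : IsIso (φ.app (W k)) := by
      rw [Scheme.Hom.app_eq_appLE]
      subst hpre
      assumption
    show IsIso (φ ∣_ W k)
    have hW : (W k).ι ''ᵁ ⊤ = W k := Scheme.Opens.ι_image_top _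
    haveI : IsIso (φ.app ((W k).ι ''ᵁ ⊤)) := by rw [hW]; assumption
    haveI : IsIso (φ ∣_ W k).appTop := by rw [morphismRestrict_appTop]; infer_instance
    exact ((MorphismProperty.isomorphisms Scheme.{u}).arrow_mk_iso_iff (arrowIsoSpecΓOfIsAffine (φ ∣_ W k))).2
      (inferInstanceAs (IsIso (Spec.map (φ ∣_ W k).appTop)))
  exact h'.of_iso (Iso.refl _) (Iso.refl _) (Iso.refl _) (asIso φ) (by simp) (by simp) (by simp [ha]) (by simp [hb])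

/-- The sections of a base change of an affine piece. -/
theorem isPushout_appLE {X₀ S₀ T₀ X₁ : Scheme.{u}} {f : X₀ ⟶ S₀} {g : T₀ ⟶ S₀} {pr : X₁ ⟶ X₀} {q : X₁ ⟶ T₀}
    (H : IsPullback pr q f g) {US : S₀.Opens} {UX : X₀.Opens} {UT : T₀.Opens} (hUS : IsAffineOpen US)
    (hUX : IsAffineOpen UX) (hUT : IsAffineOpen UT) (hX : UX ≤ f ⁻¹ᵁ US) (hT : UT ≤ g ⁻¹ᵁ US) (UY : X₁.Opens)
    (hUY : UY = pr ⁻¹ᵁ UX ⊓ q ⁻¹ᵁ UT) :
    IsPushout (f.appLE US UX hX) (g.appLE US UT hT) (pr.appLE UX UY (hUY.le.trans inf_le_left))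
      (q.appLE UT UY (hUY.le.trans inf_le_right)) ∧ IsAffineOpen UY := by
  haveI : IsAffine (UX : Scheme.{u}) := hUX
  haveI : IsAffine (UT : Scheme.{u}) := hUT
  haveI : IsAffine (US : Scheme.{u}) := hUS
  exact ⟨(isIso_pushoutSection_iff H hT hX hUY).1 (isIso_pushoutSection_of_isAffineOpen H hT hX hUY hUS hUT hUX),
    .of_isIso (Scheme.Hom.isPullback_resLE H hT hX hUY).isoPullback.hom⟩

/-- The condition on an affine piece under which the base change is a fibre product. -/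
def PieceInj (i : Z ⟶ X) (j : Z ⟶ Y) (a : X ⟶ P) (b : Y ⟶ P) {S T : Scheme.{u}} (sP : P ⟶ S) (g : T ⟶ S)
    (W : P.Opens) (U : S.Opens) (V : T.Opens) (e : W ≤ sP ⁻¹ᵁ U) (e' : V ≤ g ⁻¹ᵁ U) (e'' : i ⁻¹ᵁ (a ⁻¹ᵁ W) ≤ j ⁻¹ᵁ (b ⁻¹ᵁ W)) : Prop :=
  ∀ (_ : Algebra Γ(S, U) Γ(T, V)) (_ : Algebra Γ(S, U) Γ(P, W)) (_ : Algebra Γ(S, U) Γ(X, a ⁻¹ᵁ W))
    (_ : Algebra Γ(S, U) Γ(Y, b ⁻¹ᵁ W)) (_ : Algebra Γ(S, U) Γ(Z, i ⁻¹ᵁ (a ⁻¹ᵁ W)))
    (q : AlgSq Γ(S, U) Γ(P, W) Γ(X, a ⁻¹ᵁ W) Γ(Y, b ⁻¹ᵁ W) Γ(Z, i ⁻¹ᵁ (a ⁻¹ᵁ W))),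
    algebraMap Γ(S, U) Γ(T, V) = (g.appLE U V e').hom →
    algebraMap Γ(S, U) Γ(Z, i ⁻¹ᵁ (a ⁻¹ᵁ W)) = ((i ≫ a ≫ sP).appLE U (i ⁻¹ᵁ (a ⁻¹ᵁ W)) (fun _ hz => e hz)).hom →
    algebraMap Γ(S, U) Γ(P, W) = (sP.appLE U W e).hom →
    q.δ.toRingHom = (j.appLE (b ⁻¹ᵁ W) (i ⁻¹ᵁ (a ⁻¹ᵁ W)) e'').hom → q.InjBC Γ(T, V)

/-- **Base change of a pinching.** -/
theorem isPinch_baseChange [IsClosedImmersion i] (h : IsPinch i j a b)
    {S T PT XT YT ZT : Scheme.{u}} (sP : P ⟶ S) (g : T ⟶ S)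
    (hcond : ∀ (p : P) (t : T), sP p = g t → ∃ (W : P.Opens) (U : S.Opens) (V : T.Opens) (e : W ≤ sP ⁻¹ᵁ U)
      (e' : V ≤ g ⁻¹ᵁ U), Good i a b W ∧ IsAffineOpen U ∧ IsAffineOpen V ∧ p ∈ W ∧ t ∈ V ∧
        PieceInj i j a b sP g W U V e e' (le_preimage (w_of_isPinch h) W))
    {pP : PT ⟶ P} {sPT : PT ⟶ T} (hPT : IsPullback pP sPT sP g)
    {pX : XT ⟶ X} {qT : XT ⟶ PT} (hXT : IsPullback pX qT a pP)
    {pY : YT ⟶ Y} {jT : YT ⟶ PT} (hYT : IsPullback pY jT b pP)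
    {pZ : ZT ⟶ Z} {iT : ZT ⟶ XT} (hZT : IsPullback pZ iT i pX) {hT : ZT ⟶ YT}
    (h1 : hT ≫ pY = pZ ≫ j) (h2 : hT ≫ jT = iT ≫ qT) :
    IsPinch iT hT qT jT := by
  have w := w_of_isPinch h
  haveI : IsClosedImmersion iT := MorphismProperty.of_isPullback hZT ‹_›
  have HX : IsPullback pX (qT ≫ sPT) (a ≫ sP) g := hXT.paste_vert hPT
  have HY : IsPullback pY (jT ≫ sPT) (b ≫ sP) g := hYT.paste_vert hPT
  have HZ : IsPullback pZ (iT ≫ qT ≫ sPT) (i ≫ a ≫ sP) g := hZT.paste_vert HX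
  choose W U V e e' hG hU hV hp ht hinj using fun x : PT => hcond (pP x) (sPT x) (by
    rw [← Scheme.Hom.comp_apply, hPT.w, Scheme.Hom.comp_apply])
  let O : PT → PT.Opens := fun x => pP ⁻¹ᵁ W x ⊓ sPT ⁻¹ᵁ V x
  have hX : ∀ x, qT ⁻¹ᵁ O x = pX ⁻¹ᵁ (a ⁻¹ᵁ W x) ⊓ (qT ≫ sPT) ⁻¹ᵁ V x := fun x => by
    rw [← Scheme.Hom.comp_preimage, hXT.w]; rfl
  have hY : ∀ x, jT ⁻¹ᵁ O x = pY ⁻¹ᵁ (b ⁻¹ᵁ W x) ⊓ (jT ≫ sPT) ⁻¹ᵁ V x := fun x => by
    rw [← Scheme.Hom.comp_preimage, hYT.w]; rfl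
  have hZ : ∀ x, iT ⁻¹ᵁ (qT ⁻¹ᵁ O x) = pZ ⁻¹ᵁ (i ⁻¹ᵁ (a ⁻¹ᵁ W x)) ⊓ (iT ≫ qT ≫ sPT) ⁻¹ᵁ V x := fun x => by
    rw [hX, ← Scheme.Hom.comp_preimage pZ i, hZT.w]; rfl
  refine isPinch_of_cover h2.symm O (top_le_iff.1 fun x _ => Opens.mem_iSup.2 ⟨x, hp x, ht x⟩) (fun x => ?_) fun x => ?_
  · exact ⟨(isPushout_appLE hPT (hU x) (hG x).affW (hV x) (e x) (e' x) (O x) rfl).2,
      (isPushout_appLE HX (hU x) (hG x).affX (hV x) (fun _ hz => e x hz) (e' x) _ (hX x)).2,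
      (isPushout_appLE HY (hU x) (hG x).affY (hV x) (fun _ hz => e x hz) (e' x) _ (hY x)).2,
      (isPushout_appLE HZ (hU x) (hG x).affZ (hV x) (fun _ hz => e x hz) (e' x) _ (hZ x)).2⟩
  · refine isPullback_of_pushouts (g.appLE (U x) (V x) (e' x))
      (kR := sP.appLE (U x) (W x) (e x))
      (kA' := (a ≫ sP).appLE (U x) (a ⁻¹ᵁ W x) (fun _ hz => e x hz))
      (kB := (b ≫ sP).appLE (U x) (b ⁻¹ᵁ W x) (fun _ hz => e x hz))
      (kA := (i ≫ a ≫ sP).appLE (U x) (i ⁻¹ᵁ (a ⁻¹ᵁ W x)) (fun _ hz => e x hz))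
      ?_ ?_ ?_ ?_ (isPullback_appLE h (W x) _ _ _ rfl rfl rfl (le_preimage w (W x))) ?_ (hinj x)
      (isPushout_appLE hPT (hU x) (hG x).affW (hV x) (e x) (e' x) (O x) rfl).1
      (isPushout_appLE HX (hU x) (hG x).affX (hV x) (fun _ hz => e x hz) (e' x) _ (hX x)).1
      (isPushout_appLE HY (hU x) (hG x).affY (hV x) (fun _ hz => e x hz) (e' x) _ (hY x)).1
      (isPushout_appLE HZ (hU x) (hG x).affZ (hV x) (fun _ hz => e x hz) (e' x) _ (hZ x)).1 ?_ ?_ ?_ ?_ ?_ ?_ ?_ ?_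
    · rw [Scheme.Hom.appLE_comp_appLE]
    · rw [Scheme.Hom.appLE_comp_appLE]
    · rw [Scheme.Hom.appLE_comp_appLE]
    · rw [Scheme.Hom.appLE_comp_appLE]
      simp only [← Category.assoc, w]
    · show Function.Surjective (i.appLE _ _ _).hom
      rw [← Scheme.Hom.app_eq_appLE]
      exact i.app_surjective _ (hG x).affX
    · simp only [Scheme.Hom.appLE_comp_appLE, hXT.w]
    · simp only [Scheme.Hom.appLE_comp_appLE]
    · simp only [Scheme.Hom.appLE_comp_appLE, hYT.w]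
    · simp only [Scheme.Hom.appLE_comp_appLE]
    · simp only [Scheme.Hom.appLE_comp_appLE, hZT.w]
    · simp only [Scheme.Hom.appLE_comp_appLE]
    · simp only [Scheme.Hom.appLE_comp_appLE, h1]
    · simp only [Scheme.Hom.appLE_comp_appLE, reassoc_of% h2]


end Groth.Agent.Pinch

namespace Groth.Agent.Pinch

variable {Z X Y P : Scheme.{u}} {i : Z ⟶ X} {j : Z ⟶ Y} {a : X ⟶ P} {b : Y ⟶ P}

/-- A basic open of a good piece is good. -/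
theorem Good.basicOpen {W : P.Opens} (h : Good i a b W) (r : Γ(P, W)) : Good i a b (P.basicOpen r) := by
  refine ⟨h.affW.basicOpen r, ?_, ?_, ?_⟩
  · rw [Scheme.preimage_basicOpen]; exact h.affX.basicOpen _
  · rw [Scheme.preimage_basicOpen]; exact h.affY.basicOpen _
  · rw [Scheme.preimage_basicOpen, Scheme.preimage_basicOpen]; exact h.affZ.basicOpen _

/-- Good pieces over affine pieces of a base. -/
theorem exists_piece [IsClosedImmersion i] (hc : HasCharts i j) (h : IsPinch i j a b) {S T : Scheme.{u}} (sP : P ⟶ S)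
    (g : T ⟶ S) (p : P) (t : T) (hpt : sP p = g t) :
    ∃ (W : P.Opens) (U : S.Opens) (V : T.Opens) (_ : W ≤ sP ⁻¹ᵁ U) (_ : V ≤ g ⁻¹ᵁ U),
      Good i a b W ∧ IsAffineOpen U ∧ IsAffineOpen V ∧ p ∈ W ∧ t ∈ V := by
  obtain ⟨W, hW, hp⟩ := exists_good hc h p
  obtain ⟨U, hU, hpU, -⟩ := exists_isAffineOpen_mem_and_subset (U := (⊤ : S.Opens)) (x := sP p) trivial
  obtain ⟨r, hr, hpr⟩ := hW.affW.exists_basicOpen_le (V := sP ⁻¹ᵁ U) ⟨p, hpU⟩ hp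
  obtain ⟨V, hV, htV, hVU⟩ := exists_isAffineOpen_mem_and_subset (U := g ⁻¹ᵁ U) (x := t) (show g t ∈ U from hpt ▸ hpU)
  exact ⟨_, U, V, hr, hVU, hW.basicOpen r, hU, hV, hpr, htV⟩

/-- Charts from an affine map to a scheme containing the target of `j` as a closed subscheme. -/
theorem hasCharts_of_affine [IsClosedImmersion i] (w : i ≫ a = j ≫ b) [IsAffineHom a] [IsAffineHom b] :
    HasCharts i j := fun y => by
  obtain ⟨V, hV, hyV, -⟩ := exists_isAffineOpen_mem_and_subset (U := (⊤ : P.Opens)) (x := b y) trivial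
  exact ⟨a ⁻¹ᵁ V, b ⁻¹ᵁ V, ⟨hV.preimage a, hV.preimage b, (hV.preimage a).preimage i, preimage_eq w V⟩, hyV⟩

/-- Base change along a flat morphism. -/
theorem isPinch_baseChange_flat [IsClosedImmersion i] (hc : HasCharts i j) (h : IsPinch i j a b)
    {S T PT XT YT ZT : Scheme.{u}} (sP : P ⟶ S) (g : T ⟶ S) [Flat g]
    {pP : PT ⟶ P} {sPT : PT ⟶ T} (hPT : IsPullback pP sPT sP g)
    {pX : XT ⟶ X} {qT : XT ⟶ PT} (hXT : IsPullback pX qT a pP)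
    {pY : YT ⟶ Y} {jT : YT ⟶ PT} (hYT : IsPullback pY jT b pP)
    {pZ : ZT ⟶ Z} {iT : ZT ⟶ XT} (hZT : IsPullback pZ iT i pX) {hT : ZT ⟶ YT}
    (h1 : hT ≫ pY = pZ ≫ j) (h2 : hT ≫ jT = iT ≫ qT) :
    IsPinch iT hT qT jT := by
  refine isPinch_baseChange h sP g (fun p t hpt => ?_) hPT hXT hYT hZT h1 h2
  obtain ⟨W, U, V, e, e', hG, hU, hV, hp, ht⟩ := exists_piece hc h sP g p t hpt
  refine ⟨W, U, V, e, e', hG, hU, hV, hp, ht, fun _ _ _ _ _ q hg _ _ _ => ?_⟩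
  haveI : Module.Flat Γ(S, U) Γ(T, V) := by
    rw [← RingHom.flat_algebraMap_iff, hg]
    exact HasRingHomProperty.appLE @Flat g inferInstance ⟨U, hU⟩ ⟨V, hV⟩ e'
  exact q.injBC_of_flat _

/-- Base change when the intersection is flat over the base. -/
theorem isPinch_baseChange_flat_corner [IsClosedImmersion i] (hc : HasCharts i j) (h : IsPinch i j a b)
    {S T PT XT YT ZT : Scheme.{u}} (sP : P ⟶ S) [Flat (i ≫ a ≫ sP)] (g : T ⟶ S)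
    {pP : PT ⟶ P} {sPT : PT ⟶ T} (hPT : IsPullback pP sPT sP g)
    {pX : XT ⟶ X} {qT : XT ⟶ PT} (hXT : IsPullback pX qT a pP)
    {pY : YT ⟶ Y} {jT : YT ⟶ PT} (hYT : IsPullback pY jT b pP)
    {pZ : ZT ⟶ Z} {iT : ZT ⟶ XT} (hZT : IsPullback pZ iT i pX) {hT : ZT ⟶ YT}
    (h1 : hT ≫ pY = pZ ≫ j) (h2 : hT ≫ jT = iT ≫ qT) :
    IsPinch iT hT qT jT := by
  refine isPinch_baseChange h sP g (fun p t hpt => ?_) hPT hXT hYT hZT h1 h2
  obtain ⟨W, U, V, e, e', hG, hU, hV, hp, ht⟩ := exists_piece hc h sP g p t hpt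
  refine ⟨W, U, V, e, e', hG, hU, hV, hp, ht, fun _ _ _ _ _ q _ hA _ _ => ?_⟩
  haveI : Module.Flat Γ(S, U) Γ(Z, i ⁻¹ᵁ (a ⁻¹ᵁ W)) := by
    rw [← RingHom.flat_algebraMap_iff, hA]
    exact HasRingHomProperty.appLE @Flat _ inferInstance ⟨U, hU⟩ ⟨_, hG.affZ⟩ _
  exact q.injBC_of_flat_corner _

/-- A pinching of schemes flat over a base is flat over it. -/
theorem flat_of_isPinch [IsClosedImmersion i] (hc : HasCharts i j) (h : IsPinch i j a b) {S : Scheme.{u}} (sP : P ⟶ S)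
    [Flat (a ≫ sP)] [Flat (b ≫ sP)] [Flat (i ≫ a ≫ sP)] : Flat sP := by
  rw [HasRingHomProperty.iff_exists_appLE (P := @Flat) (RingHom.Flat.stableUnderComposition.stableUnderCompositionWithLocalizationAway RingHom.Flat.holdsForLocalizationAway).1]
  intro p
  obtain ⟨W, U, -, e, -, hG, hU, -, hp, -⟩ := exists_piece hc h sP (𝟙 S) p (sP p) rfl
  refine ⟨⟨U, hU⟩, ⟨W, hG.affW⟩, hp, e, ?_⟩
  have w := w_of_isPinch h
  have hfX : ((a ≫ sP).appLE U (a ⁻¹ᵁ W) (fun _ hz => e hz)).hom.Flat :=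
    HasRingHomProperty.appLE @Flat _ inferInstance ⟨U, hU⟩ ⟨_, hG.affX⟩ _
  have hfY : ((b ≫ sP).appLE U (b ⁻¹ᵁ W) (fun _ hz => e hz)).hom.Flat :=
    HasRingHomProperty.appLE @Flat _ inferInstance ⟨U, hU⟩ ⟨_, hG.affY⟩ _
  have hfZ : ((i ≫ a ≫ sP).appLE U (i ⁻¹ᵁ (a ⁻¹ᵁ W)) (fun _ hz => e hz)).hom.Flat :=
    HasRingHomProperty.appLE @Flat _ inferInstance ⟨U, hU⟩ ⟨_, hG.affZ⟩ _
  letI : Algebra Γ(S, U) Γ(P, W) := (sP.appLE U W e).hom.toAlgebra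
  letI : Algebra Γ(S, U) Γ(X, a ⁻¹ᵁ W) := ((a ≫ sP).appLE U (a ⁻¹ᵁ W) (fun _ hz => e hz)).hom.toAlgebra
  letI : Algebra Γ(S, U) Γ(Y, b ⁻¹ᵁ W) := ((b ≫ sP).appLE U (b ⁻¹ᵁ W) (fun _ hz => e hz)).hom.toAlgebra
  letI : Algebra Γ(S, U) Γ(Z, i ⁻¹ᵁ (a ⁻¹ᵁ W)) :=
    ((i ≫ a ≫ sP).appLE U (i ⁻¹ᵁ (a ⁻¹ᵁ W)) (fun _ hz => e hz)).hom.toAlgebra
  haveI : Module.Flat Γ(S, U) Γ(X, a ⁻¹ᵁ W) := RingHom.flat_algebraMap_iff.1 hfX
  haveI : Module.Flat Γ(S, U) Γ(Y, b ⁻¹ᵁ W) := RingHom.flat_algebraMap_iff.1 hfY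
  haveI : Module.Flat Γ(S, U) Γ(Z, i ⁻¹ᵁ (a ⁻¹ᵁ W)) := RingHom.flat_algebraMap_iff.1 hfZ
  have c1 : sP.appLE U W e ≫ a.appLE W (a ⁻¹ᵁ W) le_rfl = (a ≫ sP).appLE U (a ⁻¹ᵁ W) (fun _ hz => e hz) :=
    Scheme.Hom.appLE_comp_appLE ..
  have c2 : sP.appLE U W e ≫ b.appLE W (b ⁻¹ᵁ W) le_rfl = (b ≫ sP).appLE U (b ⁻¹ᵁ W) (fun _ hz => e hz) :=
    Scheme.Hom.appLE_comp_appLE ..
  have c3 : (a ≫ sP).appLE U (a ⁻¹ᵁ W) (fun _ hz => e hz) ≫ i.appLE (a ⁻¹ᵁ W) _ le_rfl =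
      (i ≫ a ≫ sP).appLE U (i ⁻¹ᵁ (a ⁻¹ᵁ W)) (fun _ hz => e hz) := Scheme.Hom.appLE_comp_appLE ..
  have c4 : (b ≫ sP).appLE U (b ⁻¹ᵁ W) (fun _ hz => e hz) ≫ j.appLE (b ⁻¹ᵁ W) _ (le_preimage w W) =
      (i ≫ a ≫ sP).appLE U (i ⁻¹ᵁ (a ⁻¹ᵁ W)) (fun _ hz => e hz) := by
    rw [Scheme.Hom.appLE_comp_appLE]
    simp only [← Category.assoc, w]
  have hsq := isPullback_appLE h W _ _ _ rfl rfl rfl (le_preimage w W)
  have hT := hsq.map (forget CommRingCat.{u})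
  let q : AlgSq Γ(S, U) Γ(P, W) Γ(X, a ⁻¹ᵁ W) Γ(Y, b ⁻¹ᵁ W) Γ(Z, i ⁻¹ᵁ (a ⁻¹ᵁ W)) :=
    { α := { (a.appLE W (a ⁻¹ᵁ W) le_rfl).hom with commutes' := fun c => ConcreteCategory.congr_hom c1 c }
      β := { (b.appLE W (b ⁻¹ᵁ W) le_rfl).hom with commutes' := fun c => ConcreteCategory.congr_hom c2 c }
      γ := { (i.appLE (a ⁻¹ᵁ W) _ le_rfl).hom with commutes' := fun c => ConcreteCategory.congr_hom c3 c }
      δ := { (j.appLE (b ⁻¹ᵁ W) _ (le_preimage w W)).hom with commutes' := fun c => ConcreteCategory.congr_hom c4 c }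
      w := fun r => ConcreteCategory.congr_hom hsq.w r
      surj := by
        show Function.Surjective (i.appLE _ _ _).hom
        rw [← Scheme.Hom.app_eq_appLE]
        exact i.app_surjective _ hG.affX
      inj := fun r r' h1 h2 => Types.ext_of_isPullback hT h1 h2
      ex := fun x y h => Types.exists_of_isPullback hT x y h }
  exact RingHom.flat_algebraMap_iff.2 q.flat

/-- The square of a morphism over a base and its base change. -/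
theorem isPullback_over {S T : Scheme.{u}} {A B : Over S} (f : A ⟶ B) (g : T ⟶ S) :
    IsPullback (pullback.fst A.hom g) ((Over.pullback g).map f).left f.left (pullback.fst B.hom g) := by
  refine IsPullback.of_bot (v₂₁ := pullback.snd B.hom g) (v₂₂ := B.hom) (h₃₁ := g) ?_ ?_
    (IsPullback.of_hasPullback B.hom g)
  · rw [show ((Over.pullback g).map f).left ≫ pullback.snd B.hom g = pullback.snd A.hom g from Over.w ((Over.pullback g).map f),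
      Over.w f]
    exact IsPullback.of_hasPullback A.hom g
  · simp

end Groth.Agent.Pinch
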