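import Groth.Agent.Pinch.Milnor
import Mathlib.AlgebraicGeometry.QuasiAffine
import Mathlib.AlgebraicGeometry.ZariskisMainTheorem
import Mathlib.AlgebraicGeometry.Normalization

/-! Charts lifted to schemes over a pinched scheme, and the resulting fibre squares. -/

set_option autoImplicit false
set_option backward.isDefEq.respectTransparency false
set_option linter.style.haveILetI false

universe u

open CategoryTheory Limits AlgebraicGeometry TopologicalSpace Opposite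

namespace Groth.Agent.Pinch

theorem mem_basicOpen_toSpecΓ {T : Scheme.{u}} (r : Γ(T, ⊤)) (x : T) :
    x ∈ T.basicOpen r ↔ r ∉ (T.toSpecΓ x).asIdeal := by
  rw [← Scheme.toSpecΓ_preimage_basicOpen]; rfl

theorem exists_affine_of_integral {A B T : Scheme.{u}} [IsAffine A] [IsAffine B] [T.IsQuasiAffine] (q : A ⟶ B)
    [IsIntegralHom q] (m : A ⟶ T) (y : B) : ∃ U : T.Opens, IsAffineOpen U ∧ ∀ z, q z = y → m z ∈ U := by
  letI : Algebra Γ(B, ⊤) Γ(A, ⊤) := q.appTop.hom.toAlgebra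
  haveI : Algebra.IsIntegral Γ(B, ⊤) Γ(A, ⊤) := ⟨IsIntegralHom.isIntegral_app (f := q) ⊤ (isAffineOpen_top B)⟩
  let J : Ideal Γ(T, ⊤) :=
    { carrier := {r | (PrimeSpectrum.basicOpen r : Set (PrimeSpectrum Γ(T, ⊤))) ⊆ Set.range T.toSpecΓ}
      add_mem' := fun {c d} hc hd p hp => by
        by_cases h : c ∈ p.asIdeal
        · exact hd fun h' => hp (add_mem h h')
        · exact hc h
      zero_mem' := fun p hp => absurd p.asIdeal.zero_mem hp
      smul_mem' := fun r c hc p hp => hc fun h => hp (p.asIdeal.mul_mem_left r h) }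
  have hbA : Function.Bijective A.toSpecΓ := ConcreteCategory.bijective_of_isIso A.toSpecΓ.base
  have hbB : Function.Bijective B.toSpecΓ := ConcreteCategory.bijective_of_isIso B.toSpecΓ.base
  have hnat : ∀ z, B.toSpecΓ (q z) = PrimeSpectrum.comap (algebraMap Γ(B, ⊤) Γ(A, ⊤)) (A.toSpecΓ z) := fun z => by
    rw [← Scheme.Hom.comp_apply, Scheme.toSpecΓ_naturality]; rfl
  have hm : ∀ z (r : Γ(T, ⊤)), m.appTop r ∉ (A.toSpecΓ z).asIdeal ↔ m z ∈ T.basicOpen r := fun z r => by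
    rw [← mem_basicOpen_toSpecΓ, ← Scheme.preimage_basicOpen_top]; rfl
  obtain ⟨r, hr, hr'⟩ := exists_avoid m.appTop.hom (B.toSpecΓ y).asIdeal J fun Q hQ hQy => by
    obtain ⟨z, hz⟩ := hbA.2 ⟨Q, hQ⟩
    obtain ⟨_, ⟨_, ⟨r, rfl⟩, rfl⟩, hzr, hrT⟩ := PrimeSpectrum.isBasis_basic_opens.exists_subset_of_mem_open
      (Set.mem_range_self (f := T.toSpecΓ) (m z)) T.toSpecΓ.opensRange.2
    refine ⟨r, hrT, ?_⟩
    have := (hm z r).2 ((mem_basicOpen_toSpecΓ r (m z)).2 hzr)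
    rwa [hz] at this
  refine ⟨T.basicOpen r, ?_, fun z hz => (hm z r).1 (hr' _ (A.toSpecΓ z).2 ?_)⟩
  · rw [← Scheme.Hom.isAffineOpen_iff_of_isOpenImmersion T.toSpecΓ, ← Scheme.toSpecΓ_preimage_basicOpen]
    convert IsAffineOpen.Spec_basicOpen r
    exact SetLike.coe_injective (Set.image_preimage_eq_of_subset hr)
  · rw [← hz, hnat]; rfl

variable {Z X Y Z' X' Y' : Scheme.{u}} {i : Z ⟶ X} {j : Z ⟶ Y} {f : X' ⟶ X} {g : Y' ⟶ Y} {i' : Z' ⟶ X'}
  {j' : Z' ⟶ Y'} {c : Z' ⟶ Z}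

/-- Fibres of the lifted integral map lie in affine opens, for a quasi-finite lift which is separated near them. -/
theorem hasCharts_lift_local [IsClosedImmersion i'] [IsIntegralHom j'] [LocallyQuasiFinite f]
    [LocallyOfFiniteType f] (hc : HasCharts i j)
    (hsep : ∀ y : Y', ∃ O₁ : X'.Opens, IsSeparated (O₁.ι ≫ f) ∧ ∀ z, j' z = y → i' z ∈ O₁) (wX : i' ≫ f = c ≫ i) (wY : j' ≫ g = c ≫ j) :
    HasCharts i' j' := by
  refine hasCharts_of_integral i' j' fun y => ?_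
  obtain ⟨U, V, hUV, hyV⟩ := hc (g y)
  have hK : ∀ z, j' z = y → f (i' z) ∈ U := fun z hz => by
    rw [← Scheme.Hom.comp_apply i' f, wX, Scheme.Hom.comp_apply]
    show c z ∈ i ⁻¹ᵁ U
    rw [hUV.sat]
    show j (c z) ∈ V
    rw [← Scheme.Hom.comp_apply c j, ← wY, Scheme.Hom.comp_apply, hz]
    exact hyV
  have hKc : IsCompact (i' '' (j' ⁻¹' {y})) := (j'.isCompact_preimage_singleton y).image i'.continuous
  obtain ⟨O₁, hO₁, hKO₁⟩ := hsep y
  have hcov : ∀ x ∈ i' '' (j' ⁻¹' {y}), ∃ W : X'.Opens, IsAffineOpen W ∧ x ∈ W ∧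
      (W : Set X') ⊆ (f ⁻¹ᵁ U ⊓ O₁ : X'.Opens) := by
    rintro x ⟨z, hz, rfl⟩
    exact exists_isAffineOpen_mem_and_subset (U := f ⁻¹ᵁ U ⊓ O₁) ⟨hK z hz, hKO₁ z hz⟩
  choose W hW hxW hWU using hcov
  obtain ⟨s, hs⟩ := hKc.elim_finite_subcover (fun x : i' '' (j' ⁻¹' {y}) => (W x.1 x.2 : Set X'))
    (fun x => (W x.1 x.2).2) fun x hx => Set.mem_iUnion.2 ⟨⟨x, hx⟩, hxW x hx⟩
  let O : X'.Opens := ⨆ x ∈ s, W x.1 x.2
  have hO : IsCompact (O : Set X') := by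
    simp only [O, Opens.coe_iSup]
    exact s.finite_toSet.isCompact_biUnion fun x _ => (hW x.1 x.2).isCompact
  have hOU : O ≤ f ⁻¹ᵁ U := iSup₂_le fun x _ => fun p hp => (hWU x.1 x.2 hp).1
  have hOO : O ≤ O₁ := iSup₂_le fun x _ => fun p hp => (hWU x.1 x.2 hp).2
  have hKO : ∀ z, j' z = y → i' z ∈ O := fun z hz => by
    have := hs ⟨z, hz, rfl⟩
    show i' z ∈ (O : Set X')
    simpa only [O, Opens.coe_iSup] using this
  haveI : IsAffine (U : Scheme.{u}) := hUV.affX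
  haveI : CompactSpace (O : Scheme.{u}) := isCompact_iff_compactSpace.1 hO
  let fO : (O : Scheme.{u}) ⟶ U := f.resLE U O hOU
  haveI : IsSeparated (fO ≫ U.ι) := by
    simp only [fO, Scheme.Hom.resLE_comp_ι]
    rw [← X'.homOfLE_ι hOO, Category.assoc]
    infer_instance
  haveI : IsSeparated fO := .of_comp _ U.ι
  haveI : QuasiCompact fO := by rw [quasiCompact_iff_compactSpace]; infer_instance
  haveI : LocallyQuasiFinite fO := by unfold fO; infer_instance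
  haveI : IsAffine fO.normalization := isAffine_of_isAffineHom fO.fromNormalization
  haveI : (O : Scheme.{u}).IsQuasiAffine := Scheme.IsQuasiAffine.of_isImmersion fO.toNormalization
  obtain ⟨V₀, hV₀, hyV₀, -⟩ := exists_isAffineOpen_mem_and_subset (U := (⊤ : Y'.Opens)) (x := y) trivial
  obtain ⟨e, hye, hle⟩ := exists_basicOpen_preimage_le j' hV₀ y hyV₀ (i' ⁻¹ᵁ O) hKO
  haveI : IsAffine (Y'.basicOpen e : Scheme.{u}) := hV₀.basicOpen e
  haveI : IsAffine (j' ⁻¹ᵁ Y'.basicOpen e : Scheme.{u}) := (hV₀.basicOpen e).preimage j'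
  obtain ⟨U₁, hU₁, hz⟩ := exists_affine_of_integral (j' ∣_ Y'.basicOpen e) (i'.resLE O _ hle) ⟨y, hye⟩
  refine ⟨O.ι ''ᵁ U₁, hU₁.image_of_isOpenImmersion O.ι, fun z hzy => ?_⟩
  have hzV : z ∈ j' ⁻¹ᵁ Y'.basicOpen e := show j' z ∈ _ from hzy ▸ hye
  refine ⟨_, hz ⟨z, hzV⟩ (Subtype.ext ?_), ?_⟩
  · exact (show _ = j' z from congr($(morphismRestrict_ι j' (Y'.basicOpen e)) ⟨z, hzV⟩)).trans hzy
  · exact congr($(Scheme.Hom.resLE_comp_ι i' hle) ⟨z, hzV⟩)

/-- Fibres of the lifted integral map lie in affine opens, for a separated quasi-finite lift. -/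
theorem hasCharts_lift [IsClosedImmersion i'] [IsIntegralHom j'] [IsSeparated f] [LocallyQuasiFinite f]
    [LocallyOfFiniteType f] (hc : HasCharts i j) (wX : i' ≫ f = c ≫ i) (wY : j' ≫ g = c ≫ j) :
    HasCharts i' j' :=
  hasCharts_lift_local hc (fun _ => ⟨⊤, inferInstance, fun _ _ => trivial⟩) wX wY

variable {P P' : Scheme.{u}} {a : X ⟶ P} {b : Y ⟶ P} {a' : X' ⟶ P'} {b' : Y' ⟶ P'} {h : P' ⟶ P}

theorem isIso_of_pieces {Q T : Scheme.{u}} (φ : Q ⟶ T) {ι : Type*} (O : ι → T.Opens) (hO : iSup O = ⊤)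
    (h1 : ∀ k, IsAffineOpen (O k)) (h2 : ∀ k, IsAffineOpen (φ ⁻¹ᵁ O k)) (h3 : ∀ k, IsIso (φ.app (O k))) : IsIso φ := by
  refine (IsZariskiLocalAtTarget.of_iSup_eq_top (P := MorphismProperty.isomorphisms Scheme.{u}) O hO fun k => ?_)
  haveI : IsAffine (O k : Scheme.{u}) := h1 k
  rw [HasAffineProperty.iff_of_isAffine (P := MorphismProperty.isomorphisms Scheme.{u})]
  refine ⟨h2 k, ?_⟩
  have e : (φ ∣_ O k).appTop = _ := morphismRestrict_appTop φ (O k)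
  rw [e]
  haveI : IsIso (φ.app ((O k).ι ''ᵁ ⊤)) := by rw [Scheme.Opens.ι_image_top]; exact h3 k
  infer_instance

theorem isPullback_of_pieces {A A' B B' : Scheme.{u}} {a : A ⟶ B} {a' : A' ⟶ B'} {f : A' ⟶ A} {h : B' ⟶ B}
    (w : a' ≫ h = f ≫ a)
    (H : ∀ p : B', ∃ (W : B.Opens) (W' : B'.Opens) (eh : W' ≤ h ⁻¹ᵁ W) (ef : a' ⁻¹ᵁ W' ≤ f ⁻¹ᵁ (a ⁻¹ᵁ W)),
      p ∈ W' ∧ IsAffineOpen W ∧ IsAffineOpen W' ∧ IsAffineOpen (a ⁻¹ᵁ W) ∧ IsAffineOpen (a' ⁻¹ᵁ W') ∧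
      IsPushout (h.appLE W W' eh) (a.appLE W (a ⁻¹ᵁ W) le_rfl) (a'.appLE W' (a' ⁻¹ᵁ W') le_rfl)
        (f.appLE (a ⁻¹ᵁ W) (a' ⁻¹ᵁ W') ef)) :
    IsPullback a' f h a := by
  choose W W' eh ef hpW hW hW' hWa hWa' hpo using H
  let φ := pullback.lift a' f w
  suffices IsIso φ from IsPullback.of_iso_pullback ⟨w⟩ (asIso φ) (by simp [φ]) (by simp [φ])
  have hpre : ∀ p, φ ⁻¹ᵁ (pullback.fst h a ⁻¹ᵁ W' p) = a' ⁻¹ᵁ W' p := fun p => by
    rw [← Scheme.Hom.comp_preimage, pullback.lift_fst]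
  have hle : ∀ p, pullback.fst h a ⁻¹ᵁ W' p ≤ pullback.snd h a ⁻¹ᵁ (a ⁻¹ᵁ W p) := fun p x hx => by
    show a (pullback.snd h a x) ∈ W p
    rw [← Scheme.Hom.comp_apply, ← pullback.condition, Scheme.Hom.comp_apply]
    exact eh p hx
  have key := fun p => isPushout_appLE (IsPullback.of_hasPullback h a) (hW p) (hW' p) (hWa p) (eh p) le_rfl
    (pullback.fst h a ⁻¹ᵁ W' p) (le_antisymm (le_inf le_rfl (hle p)) inf_le_left)
  refine isIso_of_pieces φ (fun p => pullback.fst h a ⁻¹ᵁ W' p)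
    (top_le_iff.1 fun x _ => Opens.mem_iSup.2 ⟨pullback.fst h a x, hpW _⟩) (fun p => (key p).2)
    (fun p => by rw [hpre]; exact hWa' p) fun p => ?_
  let ψ := φ.appLE (pullback.fst h a ⁻¹ᵁ W' p) (a' ⁻¹ᵁ W' p) (hpre p).ge
  have hψ : ψ = ((key p).1.isoIsPushout _ _ (hpo p)).hom := by
    apply (key p).1.hom_ext
    · rw [IsPushout.inl_isoIsPushout_hom, Scheme.Hom.appLE_comp_appLE]
      simp only [pullback.lift_fst, φ]
    · rw [IsPushout.inr_isoIsPushout_hom, Scheme.Hom.appLE_comp_appLE]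
      simp only [pullback.lift_snd, φ]
  haveI : IsIso ψ := hψ ▸ inferInstance
  haveI : IsIso (homOfLE (hpre p).ge).op := ⟨(homOfLE (hpre p).le).op, Subsingleton.elim _ _, Subsingleton.elim _ _⟩
  haveI : IsIso (φ.app (pullback.fst h a ⁻¹ᵁ W' p) ≫ A'.presheaf.map (homOfLE (hpre p).ge).op) := by
    change IsIso ψ; infer_instance
  exact IsIso.of_isIso_comp_right _ (A'.presheaf.map (homOfLE (hpre p).ge).op)

theorem isPullback_branches [IsClosedImmersion i] (hc : HasCharts i j) (hp : IsPinch i j a b)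
    [IsClosedImmersion i'] (hc' : HasCharts i' j') (hp' : IsPinch i' j' a' b')
    (hX : IsPullback i' c f i) (hY : IsPullback j' c g j) (ha : a' ≫ h = f ≫ a) (hb : b' ≫ h = g ≫ b) :
    IsPullback a' f h a ∧ IsPullback b' g h b := by
  constructor
  · exact isPullback_of_pieces ha fun p => by
      obtain ⟨V, V', eh, ef, eg, hpV, hV, hV', dX, -, -⟩ := exists_milnor_piece hc hp hc' hp' hX hY ha hb p
      exact ⟨V, V', eh, ef, hpV, hV.affW, hV'.affW, hV.affX, hV'.affX, dX⟩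
  · exact isPullback_of_pieces hb fun p => by
      obtain ⟨V, V', eh, ef, eg, hpV, hV, hV', -, dY, -⟩ := exists_milnor_piece hc hp hc' hp' hX hY ha hb p
      exact ⟨V, V', eh, eg, hpV, hV.affW, hV'.affW, hV.affY, hV'.affY, dY⟩

theorem locallyQuasiFinite_of_branches [IsClosedImmersion i] (hc : HasCharts i j) (hp : IsPinch i j a b)
    [IsClosedImmersion i'] (hc' : HasCharts i' j') (hp' : IsPinch i' j' a' b')
    (hX : IsPullback i' c f i) (hY : IsPullback j' c g j) (ha : a' ≫ h = f ≫ a) (hb : b' ≫ h = g ≫ b)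
    [LocallyQuasiFinite f] [LocallyQuasiFinite g] [LocallyOfFiniteType h] : LocallyQuasiFinite h := by
  obtain ⟨pa, pb⟩ := isPullback_branches hc hp hc' hp' hX hY ha hb
  have hpc := exists_milnor_piece hc hp hc' hp' hX hY ha hb
  have hfin : ∀ (V : P.Opens) (V' : P'.Opens) (A : Scheme.{u}) (A' : Scheme.{u}) (q : A ⟶ P) (q' : A' ⟶ P') (r : A' ⟶ A)
      (_ : LocallyQuasiFinite r) (_ : IsPullback q' r h q),
      IsAffineOpen (q ⁻¹ᵁ V) → IsAffineOpen (q' ⁻¹ᵁ V') → q' ⁻¹ᵁ V' ≤ r ⁻¹ᵁ (q ⁻¹ᵁ V) → ∀ x : A, q x ∈ V →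
      {p : P' | p ∈ V' ∧ h p = q x}.Finite := by
    intro V V' A A' q q' r _ pq hV hV' hle x hx
    haveI : IsAffine (q ⁻¹ᵁ V : Scheme.{u}) := hV
    haveI : IsAffine (q' ⁻¹ᵁ V' : Scheme.{u}) := hV'
    let rr := r.resLE (q ⁻¹ᵁ V) (q' ⁻¹ᵁ V') hle
    haveI : LocallyQuasiFinite rr := by unfold rr; infer_instance
    haveI : QuasiCompact rr := inferInstance
    refine Set.Finite.subset ((rr.finite_preimage_singleton ⟨x, hx⟩).image (fun z => q' z.1)) ?_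
    rintro p ⟨hpV, hpx⟩
    obtain ⟨w, hw1, hw2⟩ := Scheme.Pullback.exists_preimage_pullback (f := h) (g := q) p x hpx
    have h1 : q' (pq.isoPullback.inv w) = p := by
      rw [← Scheme.Hom.comp_apply, IsPullback.isoPullback_inv_fst]; exact hw1
    have h2 : r (pq.isoPullback.inv w) = x := by
      rw [← Scheme.Hom.comp_apply, IsPullback.isoPullback_inv_snd]; exact hw2
    have hm : pq.isoPullback.inv w ∈ q' ⁻¹ᵁ V' := show q' _ ∈ V' from h1.symm ▸ hpV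
    exact ⟨⟨_, hm⟩, Subtype.ext ((congr($(Scheme.Hom.resLE_comp_ι r hle) ⟨_, hm⟩)).trans h2), h1⟩
  choose V V' eh ef eg hpV hV hV' hdX hdY hd' using hpc
  refine (IsZariskiLocalAtSource.iff_of_iSup_eq_top (P := @LocallyQuasiFinite) V'
    (top_le_iff.1 fun p _ => TopologicalSpace.Opens.mem_iSup.2 ⟨p, hpV p⟩)).2 fun p₀ => ?_
  refine LocallyQuasiFinite.of_finite_preimage_singleton _ fun w => ?_
  by_cases hw : w ∈ V p₀
  swap
  · refine Set.Finite.subset Set.finite_empty fun z hz => hw ?_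
    have e : h z.1 = w := hz
    exact e ▸ eh p₀ z.2
  rcases surj_of_top (top_of_isPinch hp) w with ⟨x, rfl⟩ | ⟨y, rfl⟩
  · refine Set.Finite.subset ((hfin (V p₀) (V' p₀) X X' a a' f ‹_› pa (hV p₀).affX (hV' p₀).affX (ef p₀) x hw).preimage
      Subtype.val_injective.injOn) fun z hz => ⟨z.2, hz⟩
  · refine Set.Finite.subset ((hfin (V p₀) (V' p₀) Y Y' b b' g ‹_› pb (hV p₀).affY (hV' p₀).affY (eg p₀) y hw).preimage
      Subtype.val_injective.injOn) fun z hz => ⟨z.2, hz⟩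

end Groth.Agent.Pinch
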