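import Groth.Prelude.Def_AlgSp
import Groth.Agent.AlgSpLib.SheafLemmas
import Groth.Agent.AlgSpLib.Basic
import Groth.Agent.Pinch.Lift

/-! Pinched schemes are pushouts among algebraic spaces. -/

set_option autoImplicit false
set_option backward.isDefEq.respectTransparency false
set_option linter.style.haveILetI false

universe u

open CategoryTheory CategoryTheory.Limits AlgebraicGeometry Opposite

namespace Groth.Agent.Pinch

open _root_.AlgSp Groth.Agent.AlgSpLib

variable {S : Scheme.{u}} {Z X Y P : Over S} {i : Z ⟶ X} {j : Z ⟶ Y} {a : X ⟶ P} {b : Y ⟶ P}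

/-- Two maps from a pushout of schemes to a sheaf with representable diagonal agree if they agree on the two parts. -/
theorem algSp_hom_ext {F : Sp S} (hF : Representable (Limits.diag F)) (hpo : IsPushout i j a b)
    {g₁ g₂ : (yon S).obj P ⟶ F} (ha : (yon S).map a ≫ g₁ = (yon S).map a ≫ g₂)
    (hb : (yon S).map b ≫ g₁ = (yon S).map b ≫ g₂) : g₁ = g₂ := by
  obtain ⟨W, p, q, sq⟩ := exists_pullback hF g₁ g₂
  obtain ⟨lX, hlX⟩ := exists_map_eq (sq.lift _ _ ha)
  obtain ⟨lY, hlY⟩ := exists_map_eq (sq.lift _ _ hb)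
  have hlXp : lX ≫ p = a := (yon S).map_injective (by rw [Functor.map_comp, hlX, sq.lift_fst])
  have hlXq : lX ≫ q = a := (yon S).map_injective (by rw [Functor.map_comp, hlX, sq.lift_snd])
  have hlYp : lY ≫ p = b := (yon S).map_injective (by rw [Functor.map_comp, hlY, sq.lift_fst])
  have hlYq : lY ≫ q = b := (yon S).map_injective (by rw [Functor.map_comp, hlY, sq.lift_snd])
  have hZ : i ≫ lX = j ≫ lY := by
    apply (yon S).map_injective
    apply sq.hom_ext
    · rw [← Functor.map_comp, ← Functor.map_comp, Category.assoc, Category.assoc, hlXp, hlYp, hpo.w]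
    · rw [← Functor.map_comp, ← Functor.map_comp, Category.assoc, Category.assoc, hlXq, hlYq, hpo.w]
  let s : P ⟶ W := hpo.desc lX lY hZ
  have hp : s ≫ p = 𝟙 P := by
    apply hpo.hom_ext
    · rw [← Category.assoc, hpo.inl_desc, hlXp, Category.comp_id]
    · rw [← Category.assoc, hpo.inr_desc, hlYp, Category.comp_id]
  have hq : s ≫ q = 𝟙 P := by
    apply hpo.hom_ext
    · rw [← Category.assoc, hpo.inl_desc, hlXq, Category.comp_id]
    · rw [← Category.assoc, hpo.inr_desc, hlYq, Category.comp_id]
  have e := congrArg (fun k => (yon S).map s ≫ k) sq.w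
  simpa only [← Category.assoc, ← Functor.map_comp, hp, hq, CategoryTheory.Functor.map_id, Category.id_comp] using e

/-- Maps glue from the two parts of a pinched scheme to an algebraic space. -/
theorem algSp_exists_desc [IsClosedImmersion i.left] (hc : HasCharts i.left j.left) (hpo : IsPushout i j a b)
    (hl : ∀ ⦃Z' X' Y' : Scheme.{u}⦄ (i' : Z' ⟶ X') (j' : Z' ⟶ Y') (c : Z' ⟶ Z.left) (f : X' ⟶ X.left) (g : Y' ⟶ Y.left),
      IsClosedImmersion i' → Etale f → IsPullback i' c f i.left → IsPullback j' c g j.left →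
      (∀ y : Y', ∃ O₁ : X'.Opens, IsSeparated (O₁.ι ≫ f) ∧ ∀ z, j' z = y → i' z ∈ O₁) → HasCharts i' j')
    {F : Sp S} (hF : IsAlgSpace F) (gX : (yon S).obj X ⟶ F) (gY : (yon S).obj Y ⟶ F)
    (hg : (yon S).map i ≫ gX = (yon S).map j ≫ gY) :
    ∃ β : (yon S).obj P ⟶ F, (yon S).map a ≫ β = gX ∧ (yon S).map b ≫ β = gY := by
  have hpoS : IsPushout i.left j.left a.left b.left := hpo.map (Over.forget S)
  have hp := isPinch_of_isPushout hc hpoS
  obtain ⟨U, π, hπe, hπs⟩ := hF.atlas
  obtain ⟨UX, pX, qX, sqX⟩ := exists_pullback hF.diag gX π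
  obtain ⟨UY, pY, qY, sqY⟩ := exists_pullback hF.diag gY π
  haveI eX : Etale pX.left := hπe.2 gX _ pX sqX.flip
  haveI eY : Etale pY.left := hπe.2 gY _ pY sqY.flip
  haveI sX : Surjective pX.left := hπs.2 gX _ pX sqX.flip
  haveI sY : Surjective pY.left := hπs.2 gY _ pY sqY.flip
  let UZ : Over S := Over.mk (pullback.snd pX.left i.left ≫ Z.hom)
  let i' : UZ ⟶ UX := Over.homMk (pullback.fst pX.left i.left) (by
    show pullback.fst pX.left i.left ≫ UX.hom = pullback.snd pX.left i.left ≫ Z.hom
    rw [← Over.w pX, pullback.condition_assoc, Over.w i])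
  let c : UZ ⟶ Z := Over.homMk (pullback.snd pX.left i.left) rfl
  have hXs : IsPullback i'.left c.left pX.left i.left := IsPullback.of_hasPullback pX.left i.left
  have hXo : IsPullback i' c pX i := IsPullback.of_map (Over.forget S) (Over.OverMorphism.ext pullback.condition) hXs
  have outer := (hXo.map (yon S)).flip.paste_vert sqX
  obtain ⟨j', hj'⟩ := exists_map_eq (sqY.lift ((yon S).map (c ≫ j)) ((yon S).map (i' ≫ qX)) (by
    rw [Functor.map_comp, Category.assoc, ← hg, Functor.map_comp, Category.assoc, ← sqX.w, ← Category.assoc,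
      ← Category.assoc, ← Functor.map_comp, ← Functor.map_comp, hXo.w]))
  have hj'p : j' ≫ pY = c ≫ j := (yon S).map_injective (by rw [Functor.map_comp, hj', sqY.lift_fst])
  have hj'q : j' ≫ qY = i' ≫ qX := (yon S).map_injective (by rw [Functor.map_comp, hj', sqY.lift_snd])
  rw [hg, ← Functor.map_comp, ← hj'q, Functor.map_comp] at outer
  have hYs : IsPullback j'.left c.left pY.left j.left := by
    have h1 := IsPullback.of_bot outer (by rw [← Functor.map_comp, ← Functor.map_comp, hj'p]) sqY
    exact ((IsPullback.of_map (yon S) hj'p.symm h1).map (Over.forget S)).flip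
  haveI : IsClosedImmersion i'.left := MorphismProperty.of_isPullback hXs.flip ‹IsClosedImmersion i.left›
  have hc' : HasCharts i'.left j'.left := hl i'.left j'.left c.left pX.left pY.left ‹_› eX hXs hYs fun y => by
    obtain ⟨V, hV, hyV, -⟩ := exists_isAffineOpen_mem_and_subset (U := (⊤ : U.left.Opens)) (x := qY.left y) trivial
    refine ⟨qX.left ⁻¹ᵁ V, ?_, fun z hz => ?_⟩
    · let O₁ := qX.left ⁻¹ᵁ V
      haveI : IsAffine (V : Scheme.{u}) := hV
      haveI : IsSeparated (V.ι ≫ U.hom) := by
        haveI : IsSeparated ((V.ι ≫ U.hom) ≫ terminal.from S) := by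
          rw [terminal.comp_from]; infer_instance
        exact IsSeparated.of_comp _ (terminal.from S)
      let φ : (O₁ : Scheme.{u}) ⟶ pullback X.hom (V.ι ≫ U.hom) :=
        pullback.lift (O₁.ι ≫ pX.left) (qX.left ∣_ V) (by
          rw [Category.assoc, Over.w pX, morphismRestrict_ι_assoc, Over.w qX])
      haveI : Mono φ := ⟨fun {T} p q e => by
        have e1 : p ≫ O₁.ι ≫ pX.left = q ≫ O₁.ι ≫ pX.left := by
          have := congrArg (fun k => k ≫ pullback.fst _ _) e
          simpa [φ] using this
        have e2 : p ≫ O₁.ι ≫ qX.left = q ≫ O₁.ι ≫ qX.left := by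
          have := congrArg (fun k => k ≫ pullback.snd _ _ ≫ V.ι) e
          simpa [φ] using this
        let T' : Over S := Over.mk (p ≫ O₁.ι ≫ UX.hom)
        let p' : T' ⟶ UX := Over.homMk (p ≫ O₁.ι) (by simp [T'])
        let q' : T' ⟶ UX := Over.homMk (q ≫ O₁.ι) (by
          simp only [T', Over.mk_hom, ← Over.w pX, Category.assoc, reassoc_of% e1])
        have : p' = q' := (yon S).map_injective (sqX.hom_ext
          (by rw [← Functor.map_comp, ← Functor.map_comp]; exact congrArg _ (Over.OverMorphism.ext (by simpa [p', q'] using e1)))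
          (by rw [← Functor.map_comp, ← Functor.map_comp]; exact congrArg _ (Over.OverMorphism.ext (by simpa [p', q'] using e2))))
        exact (cancel_mono O₁.ι).1 (congrArg (fun k => k.left) this)⟩
      show IsSeparated (O₁.ι ≫ pX.left)
      rw [← pullback.lift_fst (O₁.ι ≫ pX.left) (qX.left ∣_ V) (by
        rw [Category.assoc, Over.w pX, morphismRestrict_ι_assoc, Over.w qX] :
        (O₁.ι ≫ pX.left) ≫ X.hom = (qX.left ∣_ V) ≫ V.ι ≫ U.hom)]
      haveI : IsSeparated φ := inferInstance
      show IsSeparated (φ ≫ pullback.fst X.hom (V.ι ≫ U.hom))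
      infer_instance
    · show qX.left (i'.left z) ∈ V
      rw [← Scheme.Hom.comp_apply, ← Over.comp_left, ← hj'q, Over.comp_left, Scheme.Hom.comp_apply, hz]
      exact hyV
  obtain ⟨W', a', b', hp'⟩ := exists_pinch hc'
  have hP' := isPushout_of_isPinch hp'
  let k := hP'.desc (pX.left ≫ a.left) (pY.left ≫ b.left) (by
    rw [reassoc_of% hXs.w, hpoS.w, reassoc_of% hYs.w])
  have ha : a' ≫ k = pX.left ≫ a.left := hP'.inl_desc _ _ _
  have hb : b' ≫ k = pY.left ≫ b.left := hP'.inr_desc _ _ _
  let W : Over S := Over.mk (k ≫ P.hom)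
  let kO : W ⟶ P := Over.homMk k rfl
  let aO : UX ⟶ W := Over.homMk a' (by
    show a' ≫ k ≫ P.hom = UX.hom
    rw [reassoc_of% ha, Over.w a, Over.w pX])
  let bO : UY ⟶ W := Over.homMk b' (by
    show b' ≫ k ≫ P.hom = UY.hom
    rw [reassoc_of% hb, Over.w b, Over.w pY])
  have haO : aO ≫ kO = pX ≫ a := Over.OverMorphism.ext ha
  have hbO : bO ≫ kO = pY ≫ b := Over.OverMorphism.ext hb
  have hpW : IsPushout i' j' aO bO := IsPushout.of_map (Over.forget S) (Over.OverMorphism.ext hP'.w) hP'
  let qW : W ⟶ U := hpW.desc qX qY hj'q.symm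
  haveI hket : Etale k := of_desc (M := @Etale) desc_etale
    (RingHom.Etale.stableUnderComposition.stableUnderCompositionWithLocalizationAway
      (RingHom.Etale.propertyIsLocal.HoldsForLocalizationAway RingHom.Etale.containsIdentities)).1
    hc hp hc' hp' hXs hYs ha hb (HasRingHomProperty.appLE @Etale pX.left eX) (HasRingHomProperty.appLE @Etale pY.left eY)
  obtain ⟨pa, pb⟩ := isPullback_branches hc hp hc' hp' hXs hYs ha hb
  haveI : Etale kO.left := hket
  haveI : Surjective kO.left := ⟨fun p => by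
    rcases surj_of_top (top_of_isPinch hp) p with ⟨x, rfl⟩ | ⟨y, rfl⟩
    · obtain ⟨x', rfl⟩ := pX.left.surjective x
      exact ⟨a' x', congr($ha x')⟩
    · obtain ⟨y', rfl⟩ := pY.left.surjective y
      exact ⟨b' y', congr($hb y')⟩⟩
  haveI : Flat kO.left := inferInstance
  haveI : LocallyOfFinitePresentation kO.left := inferInstance
  obtain ⟨β, hβ⟩ := exists_desc kO ((yon S).map qW ≫ π) fun T p q e => by
    have hbr : ∀ {A UA : Over S} (e' : UA ⟶ W) (pA : UA ⟶ A) (qA : UA ⟶ U) (α : A ⟶ P) (gA : (yon S).obj A ⟶ F)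
        (_ : IsPullback e'.left pA.left k α.left) (_ : e' ≫ qW = qA)
        (_ : (yon S).map pA ≫ gA = (yon S).map qA ≫ π) {T : Over S} (w : T ⟶ W) (t : T ⟶ A) (_ : w ≫ kO = t ≫ α),
        (yon S).map w ≫ (yon S).map qW ≫ π = (yon S).map t ≫ gA := by
      intro A UA e' pA qA α gA hpb he hgA T w t ht
      have ht' : w.left ≫ k = t.left ≫ α.left := congrArg (fun m => m.left) ht
      let l : T ⟶ UA := Over.homMk (hpb.lift w.left t.left ht') (by
        rw [← Over.w pA, ← Category.assoc, hpb.lift_snd, Over.w t])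
      have hl1 : l ≫ e' = w := Over.OverMorphism.ext (hpb.lift_fst _ _ _)
      have hl2 : l ≫ pA = t := Over.OverMorphism.ext (hpb.lift_snd _ _ _)
      rw [← hl1, ← hl2, Functor.map_comp, Functor.map_comp, Category.assoc, Category.assoc, hgA,
        ← Category.assoc ((yon S).map e'), ← (yon S).map_comp e' qW, he]
    let R : Over S := Over.mk (pullback.fst k k ≫ W.hom)
    let r₁ : R ⟶ W := Over.homMk (pullback.fst k k) rfl
    let r₂ : R ⟶ W := Over.homMk (pullback.snd k k) (by
      show pullback.snd k k ≫ k ≫ P.hom = pullback.fst k k ≫ k ≫ P.hom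
      rw [pullback.condition_assoc])
    let g : R ⟶ P := r₁ ≫ kO
    haveI : Flat g.left := by show Flat (pullback.fst k k ≫ k); infer_instance
    have hr : r₂ ≫ kO = g := Over.OverMorphism.ext pullback.condition.symm
    let RX : Over S := Over.mk (pullback.fst a.left g.left ≫ X.hom)
    let RY : Over S := Over.mk (pullback.fst b.left g.left ≫ Y.hom)
    let RZ : Over S := Over.mk (pullback.fst i.left (pullback.fst a.left g.left) ≫ Z.hom)
    let tX : RX ⟶ X := Over.homMk (pullback.fst a.left g.left) rfl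
    let tY : RY ⟶ Y := Over.homMk (pullback.fst b.left g.left) rfl
    let uX : RX ⟶ R := Over.homMk (pullback.snd a.left g.left) (by
      show _ ≫ R.hom = pullback.fst a.left g.left ≫ X.hom
      rw [← Over.w g, ← Over.w a, pullback.condition_assoc])
    let uY : RY ⟶ R := Over.homMk (pullback.snd b.left g.left) (by
      show _ ≫ R.hom = pullback.fst b.left g.left ≫ Y.hom
      rw [← Over.w g, ← Over.w b, pullback.condition_assoc])
    have huX : uX ≫ g = tX ≫ a := Over.OverMorphism.ext pullback.condition.symm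
    have huY : uY ≫ g = tY ≫ b := Over.OverMorphism.ext pullback.condition.symm
    let iR : RZ ⟶ RX := Over.homMk (pullback.snd i.left (pullback.fst a.left g.left)) (by
      show _ ≫ pullback.fst a.left g.left ≫ X.hom = pullback.fst i.left (pullback.fst a.left g.left) ≫ Z.hom
      rw [← Over.w i, pullback.condition_assoc])
    let jR : RZ ⟶ RY := Over.homMk
      (pullback.lift (pullback.fst i.left (pullback.fst a.left g.left) ≫ j.left)
        (pullback.snd i.left (pullback.fst a.left g.left) ≫ pullback.snd a.left g.left) (by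
          rw [Category.assoc, ← hpoS.w, pullback.condition_assoc, pullback.condition, Category.assoc])) (by
      show _ ≫ pullback.fst b.left g.left ≫ Y.hom = pullback.fst i.left (pullback.fst a.left g.left) ≫ Z.hom
      rw [pullback.lift_fst_assoc, Category.assoc, Over.w j])
    have hbc := isPinch_baseChange_flat hc hp (𝟙 P.left) g.left (pP := g.left) (sPT := 𝟙 R.left)
      (.of_vert_isIso ⟨by simp⟩) (IsPullback.of_hasPullback a.left g.left) (IsPullback.of_hasPullback b.left g.left)
      (IsPullback.of_hasPullback i.left (pullback.fst a.left g.left)) (hT := jR.left)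
      (pullback.lift_fst _ _ _) (pullback.lift_snd _ _ _)
    have hpR : IsPushout iR jR uX uY := by
      have := isPushout_of_isPinch hbc
      exact IsPushout.of_map (Over.forget S) (Over.OverMorphism.ext this.w) this
    have key : (yon S).map r₁ ≫ (yon S).map qW ≫ π = (yon S).map r₂ ≫ (yon S).map qW ≫ π := by
      refine algSp_hom_ext hF.diag hpR ?_ ?_
      · rw [← Category.assoc ((yon S).map uX), ← Category.assoc ((yon S).map uX), ← (yon S).map_comp uX r₁,
          ← (yon S).map_comp uX r₂,
          hbr aO pX qX a gX pa (hpW.inl_desc _ _ _) sqX.w (uX ≫ r₁) tX (by rw [Category.assoc]; exact huX),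
          hbr aO pX qX a gX pa (hpW.inl_desc _ _ _) sqX.w (uX ≫ r₂) tX (by rw [Category.assoc, hr]; exact huX)]
      · rw [← Category.assoc ((yon S).map uY), ← Category.assoc ((yon S).map uY), ← (yon S).map_comp uY r₁,
          ← (yon S).map_comp uY r₂,
          hbr bO pY qY b gY pb (hpW.inr_desc _ _ _) sqY.w (uY ≫ r₁) tY (by rw [Category.assoc]; exact huY),
          hbr bO pY qY b gY pb (hpW.inr_desc _ _ _) sqY.w (uY ≫ r₂) tY (by rw [Category.assoc, hr]; exact huY)]
    let l : T ⟶ R := Over.homMk (pullback.lift p.left q.left (congrArg (fun m => m.left) e)) (by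
      show _ ≫ pullback.fst k k ≫ W.hom = T.hom
      rw [pullback.lift_fst_assoc, Over.w p])
    have hl1 : l ≫ r₁ = p := Over.OverMorphism.ext (pullback.lift_fst _ _ _)
    have hl2 : l ≫ r₂ = q := Over.OverMorphism.ext (pullback.lift_snd _ _ _)
    rw [← hl1, ← hl2, Functor.map_comp, Functor.map_comp, Category.assoc, Category.assoc, key]
  refine ⟨β, ?_, ?_⟩
  · haveI := epi_yon_map pX
    rw [← cancel_epi ((yon S).map pX), ← Functor.map_comp_assoc, ← haO, Functor.map_comp_assoc, hβ,
      ← Functor.map_comp_assoc, hpW.inl_desc, ← sqX.w]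
  · haveI := epi_yon_map pY
    rw [← cancel_epi ((yon S).map pY), ← Functor.map_comp_assoc, ← hbO, Functor.map_comp_assoc, hβ,
      ← Functor.map_comp_assoc, hpW.inr_desc, ← sqY.w]

/-- A pinching is a pushout of algebraic spaces. -/
theorem algSp_isPushout [IsClosedImmersion i.left] (hc : HasCharts i.left j.left) (hpo : IsPushout i j a b)
    (hl : ∀ ⦃Z' X' Y' : Scheme.{u}⦄ (i' : Z' ⟶ X') (j' : Z' ⟶ Y') (c : Z' ⟶ Z.left) (f : X' ⟶ X.left) (g : Y' ⟶ Y.left),
      IsClosedImmersion i' → Etale f → IsPullback i' c f i.left → IsPullback j' c g j.left →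
      (∀ y : Y', ∃ O₁ : X'.Opens, IsSeparated (O₁.ι ≫ f) ∧ ∀ z, j' z = y → i' z ∈ O₁) → HasCharts i' j') :
    IsPushout ((ofScheme S).map i) ((ofScheme S).map j) ((ofScheme S).map a) ((ofScheme S).map b) := by
  have key := fun (s : PushoutCocone ((ofScheme S).map i) ((ofScheme S).map j)) =>
    algSp_exists_desc hc hpo hl s.pt.property s.inl.hom s.inr.hom (congrArg (fun m => m.hom) s.condition)
  choose β hβa hβb using key
  refine ⟨⟨by rw [← Functor.map_comp, hpo.w, Functor.map_comp]⟩, ⟨PushoutCocone.IsColimit.mk _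
    (fun s => ObjectProperty.homMk (β s)) (fun s => ?_) (fun s => ?_) (fun s m hma hmb => ?_)⟩⟩
  · exact ObjectProperty.hom_ext _ (hβa s)
  · exact ObjectProperty.hom_ext _ (hβb s)
  · exact ObjectProperty.hom_ext _ (algSp_hom_ext s.pt.property.diag hpo
      ((congrArg (fun m => m.hom) hma).trans (hβa s).symm) ((congrArg (fun m => m.hom) hmb).trans (hβb s).symm))

end Groth.Agent.Pinch
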