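import Groth.Agent.Pinch.Glue
import Groth.Agent.NilAffine.Main

/-! Standard ways to get saturated affine charts. -/

set_option autoImplicit false
set_option backward.isDefEq.respectTransparency false
set_option linter.style.haveILetI false

universe u

open CategoryTheory Limits AlgebraicGeometry TopologicalSpace Opposite

namespace Groth.Agent.Pinch

/-- Prime avoidance along an integral extension. -/
theorem exists_avoid {B C C₁ : Type u} [CommRing B] [CommRing C] [CommRing C₁] [Algebra B C]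
    [Algebra.IsIntegral B C] (φ : C₁ →+* C) (p : Ideal B) [p.IsPrime] (J : Ideal C₁)
    (hJ : ∀ Q : Ideal C, Q.IsPrime → Q.comap (algebraMap B C) = p → ∃ c ∈ J, φ c ∉ Q) :
    ∃ c ∈ J, ∀ Q : Ideal C, Q.IsPrime → Q.comap (algebraMap B C) = p → φ c ∉ Q := by
  classical
  obtain ⟨t, ht, htp⟩ : ∃ t, algebraMap B C t ∈ J.map φ ∧ t ∉ p := by
    by_contra hne
    push Not at hne
    obtain ⟨Q, hle, hQ, hQp⟩ := Ideal.exists_ideal_over_prime_of_isIntegral p (J.map φ) hne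
    obtain ⟨c, hc, hcQ⟩ := hJ Q hQ hQp
    exact hcQ (hle (Ideal.mem_map_of_mem φ hc))
  obtain ⟨T, hTJ, htT⟩ := Submodule.mem_span_finite_of_mem_span ht
  choose a ha hae using fun k : T => hTJ k.2
  let D : Subalgebra B C := Algebra.adjoin B (T : Set C)
  haveI : Algebra.FiniteType B D := Subalgebra.fg_iff_finiteType D |>.1 ⟨T, rfl⟩
  haveI : Algebra.IsIntegral B D := Algebra.IsIntegral.of_injective D.val Subtype.val_injective
  haveI : Module.Finite B D := Algebra.IsIntegral.finite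
  let e₁ : MvPolynomial T ℤ →+* C₁ := MvPolynomial.eval₂Hom (Int.castRingHom _) a
  let e : MvPolynomial T ℤ →+* D := MvPolynomial.eval₂Hom (Int.castRingHom _)
    fun k => ⟨k.1, Algebra.subset_adjoin k.2⟩
  have he : φ.comp e₁ = D.val.toRingHom.comp e :=
    MvPolynomial.ringHom_ext (fun r => by simp [e₁, e]) (fun k => by simp [e₁, e, hae k])
  let J' : Ideal (MvPolynomial T ℤ) := Ideal.span (Set.range MvPolynomial.X)
  have hJ' : J'.map e₁ ≤ J := by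
    rw [Ideal.map_span, Ideal.span_le]
    rintro _ ⟨_, ⟨k, rfl⟩, rfl⟩
    simpa [e₁] using ha k
  have hfin := Algebra.QuasiFinite.finite_primesOver (S := D) p
  have hnot : ¬ ((J' : Set (MvPolynomial T ℤ)) ⊆ ⋃ q ∈ p.primesOver D, (q.comap e : Set (MvPolynomial T ℤ))) := by
    intro hsub
    obtain ⟨q, hq, hJq⟩ := (Ideal.subset_union_prime_finite hfin (f := fun q : Ideal D => q.comap e) ⊥ ⊥
      (fun q hq _ _ => (hq.1).comap e)).1 hsub
    haveI := hq.1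
    haveI : Algebra.IsIntegral D C := Algebra.IsIntegral.tower_top (R := B)
    obtain ⟨Q, hQ, hQP, hQq⟩ := Ideal.exists_ideal_over_prime_of_isIntegral q (⊥ : Ideal C) (by
      intro x hx
      have : x = 0 := Subtype.ext (show (x : C) = 0 from hx)
      rw [this]; exact zero_mem _)
    apply htp
    have hQT : (T : Set C) ⊆ Q := fun k hk => by
      have h1 : e (MvPolynomial.X ⟨k, hk⟩) ∈ q := hJq (Ideal.subset_span ⟨_, rfl⟩)
      rw [← hQq] at h1
      simpa [e] using h1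
    have h2 : algebraMap B C t ∈ Q := Submodule.span_le.2 hQT htT
    rw [hq.2.over]
    show algebraMap B D t ∈ q
    rw [← hQq]
    exact h2
  obtain ⟨x, hxJ, hx⟩ := Set.not_subset.1 hnot
  refine ⟨e₁ x, hJ' (Ideal.mem_map_of_mem e₁ hxJ), fun Q hQ hQp hmem => hx ?_⟩
  refine Set.mem_biUnion (x := Q.comap D.val.toRingHom) ⟨inferInstance, ⟨?_⟩⟩ ?_
  · rw [← hQp]; rfl
  · replace hmem : (φ.comp e₁) x ∈ Q := hmem
    rw [he] at hmem
    exact hmem

variable {Z X Y : Scheme.{u}} (i : Z ⟶ X) (j : Z ⟶ Y)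

theorem exists_basicOpen_preimage_le [IsIntegralHom j] {V : Y.Opens} (hV : IsAffineOpen V) (y : Y) (hy : y ∈ V)
    (O : Z.Opens) (hO : ∀ z, j z = y → z ∈ O) :
    ∃ g : Γ(Y, V), y ∈ Y.basicOpen g ∧ j ⁻¹ᵁ Y.basicOpen g ≤ O := by
  have hcl : IsClosed (j '' (O : Set Z)ᶜ) := j.isClosedMap _ O.2.isClosed_compl
  obtain ⟨g, hg, hyg⟩ := hV.exists_basicOpen_le (V := ⟨_, hcl.isOpen_compl⟩)
    ⟨y, fun ⟨z, hz, hzy⟩ => hz (hO z hzy)⟩ hy
  exact ⟨g, hyg, fun z hz => by_contra fun h => hg hz ⟨z, h, rfl⟩⟩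

/-- Charts for an integral morphism whose fibres lie in affine open subsets. -/
theorem hasCharts_of_integral [IsClosedImmersion i] [IsIntegralHom j]
    (haff : ∀ y : Y, ∃ U : X.Opens, IsAffineOpen U ∧ ∀ z, j z = y → i z ∈ U) : HasCharts i j := by
  intro y
  obtain ⟨U, hU, hyU⟩ := haff y
  obtain ⟨V₀, hV₀, hy₀, -⟩ := exists_isAffineOpen_mem_and_subset (U := (⊤ : Y.Opens)) (x := y) trivial
  obtain ⟨g₀, hyg₀, hle⟩ := exists_basicOpen_preimage_le j hV₀ y hy₀ (i ⁻¹ᵁ U) hyU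
  let V := Y.basicOpen g₀
  have hV : IsAffineOpen V := hV₀.basicOpen g₀
  have hZ₁ : IsAffineOpen (i ⁻¹ᵁ U) := hU.preimage i
  have hZV : IsAffineOpen (j ⁻¹ᵁ V) := hV.preimage j
  letI : Algebra Γ(Y, V) Γ(Z, j ⁻¹ᵁ V) := (j.app V).hom.toAlgebra
  haveI : Algebra.IsIntegral Γ(Y, V) Γ(Z, j ⁻¹ᵁ V) := ⟨IsIntegralHom.isIntegral_app (f := j) V hV⟩
  let φ : Γ(Z, i ⁻¹ᵁ U) →+* Γ(Z, j ⁻¹ᵁ V) := (Z.presheaf.map (homOfLE hle).op).hom
  let p := hV.primeIdealOf ⟨y, hyg₀⟩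
  let J : Ideal Γ(Z, i ⁻¹ᵁ U) :=
    { carrier := {c | Z.basicOpen c ≤ j ⁻¹ᵁ V}
      add_mem' := fun {c d} hc hd => (Z.basicOpen_add_le c d).trans (sup_le hc hd)
      zero_mem' := by simp
      smul_mem' := fun r c hc => by
        show Z.basicOpen (r * c) ≤ _
        rw [Scheme.basicOpen_mul]; exact inf_le_right.trans hc }
  have hpt : ∀ (Q : PrimeSpectrum Γ(Z, j ⁻¹ᵁ V)), Q.asIdeal.comap (algebraMap Γ(Y, V) Γ(Z, j ⁻¹ᵁ V)) = p.asIdeal →
      j (hZV.fromSpec Q) = y := by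
    intro Q hQ
    have e : Spec.map (j.app V) Q = p := PrimeSpectrum.ext hQ
    have h2 : hV.fromSpec (Spec.map (j.app V) Q) = j (hZV.fromSpec Q) := by
      rw [Scheme.Hom.app_eq_appLE, ← Scheme.Hom.comp_apply, hV.SpecMap_appLE_fromSpec j hZV, Scheme.Hom.comp_apply]
    rw [← h2, e, hV.fromSpec_primeIdealOf]
  have hmem : ∀ (Q : PrimeSpectrum Γ(Z, j ⁻¹ᵁ V)) (c : Γ(Z, i ⁻¹ᵁ U)),
      φ c ∉ Q.asIdeal ↔ hZV.fromSpec Q ∈ Z.basicOpen c := by
    intro Q c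
    have : hZV.fromSpec ⁻¹ᵁ Z.basicOpen (φ c) = PrimeSpectrum.basicOpen (φ c) := hZV.fromSpec_preimage_basicOpen _
    have h3 : hZV.fromSpec Q ∈ Z.basicOpen (φ c) ↔ φ c ∉ Q.asIdeal := by
      rw [← PrimeSpectrum.mem_basicOpen, ← this]; rfl
    rw [← h3, Scheme.basicOpen_res]
    refine and_iff_right ?_
    exact hZV.range_fromSpec.le ⟨Q, rfl⟩
  obtain ⟨c, hcJ, hc⟩ := exists_avoid φ p.asIdeal J fun Q hQ hQp => by
    have hj : j (hZV.fromSpec ⟨Q, hQ⟩) = y := hpt ⟨Q, hQ⟩ hQp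
    have hjV : hZV.fromSpec ⟨Q, hQ⟩ ∈ j ⁻¹ᵁ V := show j _ ∈ V from hj ▸ hyg₀
    obtain ⟨c, hcle, hcmem⟩ := hZ₁.exists_basicOpen_le (V := j ⁻¹ᵁ V) ⟨_, hjV⟩ (hle hjV)
    exact ⟨c, hcle, (hmem ⟨Q, hQ⟩ c).2 hcmem⟩
  have hfib : ∀ z, j z = y → z ∈ Z.basicOpen c := by
    intro z hz
    have hzV : z ∈ j ⁻¹ᵁ V := show j z ∈ V from hz.symm ▸ hyg₀
    let Q := hZV.primeIdealOf ⟨z, hzV⟩
    have hQz : hZV.fromSpec Q = z := hZV.fromSpec_primeIdealOf _
    have hQp : Q.asIdeal.comap (algebraMap Γ(Y, V) Γ(Z, j ⁻¹ᵁ V)) = p.asIdeal := by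
      have h2 : hV.fromSpec (Spec.map (j.app V) Q) = hV.fromSpec p := by
        rw [hV.fromSpec_primeIdealOf, Scheme.Hom.app_eq_appLE, ← Scheme.Hom.comp_apply,
          hV.SpecMap_appLE_fromSpec j hZV, Scheme.Hom.comp_apply, hQz]
        exact hz
      exact congrArg PrimeSpectrum.asIdeal (hV.fromSpec.isOpenEmbedding.injective h2)
    rw [← hQz]
    exact (hmem Q c).1 (hc Q.asIdeal Q.isPrime hQp)
  obtain ⟨u₁, hu₁⟩ := i.app_surjective U hU c
  have hU' : i ⁻¹ᵁ X.basicOpen u₁ = Z.basicOpen c := by rw [Scheme.preimage_basicOpen]; exact congrArg _ hu₁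
  have hU'aff : IsAffineOpen (X.basicOpen u₁) := hU.basicOpen u₁
  obtain ⟨g, hyg, hgle⟩ := exists_basicOpen_preimage_le j hV y hyg₀ (Z.basicOpen c) hfib
  have hle2 : i ⁻¹ᵁ X.basicOpen u₁ ≤ j ⁻¹ᵁ V := hU' ▸ hcJ
  obtain ⟨u₂, hu₂⟩ := i.app_surjective (X.basicOpen u₁) hU'aff
    ((Z.presheaf.map (homOfLE hle2).op).hom ((j.app V).hom g))
  refine ⟨X.basicOpen u₂, Y.basicOpen g, ⟨hU'aff.basicOpen u₂, hV.basicOpen g, (hU'aff.basicOpen u₂).preimage i, ?_⟩, hyg⟩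
  rw [Scheme.preimage_basicOpen]
  erw [hu₂]
  rw [Scheme.basicOpen_res, ← Scheme.preimage_basicOpen, hU', inf_eq_right]
  exact hgle

/-- Charts for two closed immersions. -/
theorem hasCharts_of_closed [IsClosedImmersion i] [IsClosedImmersion j] : HasCharts i j :=
  hasCharts_of_integral i j fun y => by
    by_cases h : ∃ z, j z = y
    · obtain ⟨z, rfl⟩ := h
      obtain ⟨U, hU, hz, -⟩ := exists_isAffineOpen_mem_and_subset (U := (⊤ : X.Opens)) (x := i z) trivial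
      exact ⟨U, hU, fun z' hz' => by rwa [j.isClosedEmbedding.injective hz']⟩
    · exact ⟨⊥, isAffineOpen_bot X, fun z hz => (h ⟨z, hz⟩).elim⟩

/-- Charts for a thickening and an affine morphism. -/
theorem hasCharts_of_thickening [IsClosedImmersion i] [Surjective i] [IsAffineHom j] : HasCharts i j := by
  intro y
  obtain ⟨V, hV, hyV, -⟩ := exists_isAffineOpen_mem_and_subset (U := (⊤ : Y.Opens)) (x := y) trivial
  have hopen : IsOpen (i '' (j ⁻¹ᵁ V : Set Z)) := by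
    rw [← isClosed_compl_iff, ← Set.image_compl_eq ⟨i.isClosedEmbedding.injective, i.surjective⟩]
    exact i.isClosedMap _ (j ⁻¹ᵁ V).2.isClosed_compl
  let U : X.Opens := ⟨_, hopen⟩
  have hpre : i ⁻¹ᵁ U = j ⁻¹ᵁ V := Opens.ext (Set.preimage_image_eq _ i.isClosedEmbedding.injective)
  haveI : IsAffine ((i ⁻¹ᵁ U : Z.Opens) : Scheme.{u}) := by rw [hpre]; exact hV.preimage j
  haveI : Surjective (i ∣_ U) := IsZariskiLocalAtTarget.restrict ‹Surjective i› U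
  exact ⟨U, V, ⟨Groth.Agent.NilAffine.isAffine_of_surjective (i ∣_ U), hV, hpre ▸ hV.preimage j, hpre⟩, hyV⟩

end Groth.Agent.Pinch
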