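import Groth.Agent.Pinch.BaseChange
import Groth.Agent.Pinch.Charts
import Groth.Agent.EtMilLib.Alg
import Groth.Agent.EtMilLib.Flat
import Mathlib.RingTheory.RingHom.Etale
import Mathlib.RingTheory.RingHom.Smooth
import Mathlib.RingTheory.Kaehler.TensorProduct

/-! Properties of ring maps and scheme maps descend along Milnor squares. -/

set_option autoImplicit false
set_option backward.isDefEq.respectTransparency false
set_option linter.style.haveILetI false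

universe u

open CategoryTheory Limits AlgebraicGeometry TopologicalSpace Opposite TensorProduct

namespace Groth.Agent.Pinch

/-- Ring maps of type `Q₁` glue to ring maps of type `Q` along Milnor squares. -/
def Desc (Q₁ Q : ∀ {R S : Type u} [CommRing R] [CommRing S], (R →+* S) → Prop) : Prop :=
  ∀ (B' B A' A E D C : Type u) [CommRing B'] [CommRing B] [CommRing A'] [CommRing A] [CommRing E] [CommRing D]
    [CommRing C],
  ∀ [Algebra B' B] [Algebra B' A'] [Algebra B A] [Algebra A' A] [Algebra B' A] [Algebra B' E] [Algebra B D]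
    [Algebra E D] [Algebra B' D] [Algebra A' C] [Algebra E C] [Algebra B' C],
  ∀ [IsScalarTower B' B A] [IsScalarTower B' A' A] [IsScalarTower B' B D] [IsScalarTower B' E D]
    [IsScalarTower B' A' C] [IsScalarTower B' E C],
  EtMil.IsFibreSquare B' B A' A → Algebra.IsPushout B' B E D → Algebra.IsPushout B' A' E C →
    Q₁ (algebraMap B D) → Q₁ (algebraMap A' C) → Q (algebraMap B' E)

theorem desc_finiteType : Desc RingHom.FiniteType RingHom.FiniteType := by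
  intro B' B A' A E D C _ _ _ _ _ _ _ _ _ _ _ _ _ _ _ _ _ _ _ _ _ _ _ _ _ hsq h₁ h₂ q₁ q₂
  rw [RingHom.finiteType_algebraMap] at q₁ q₂ ⊢
  haveI : Algebra.FiniteType B (B ⊗[B'] E) := Algebra.FiniteType.equiv q₁ (Algebra.IsPushout.equiv B' B E D).symm
  haveI : Algebra.FiniteType A' (A' ⊗[B'] E) := Algebra.FiniteType.equiv q₂ (Algebra.IsPushout.equiv B' A' E C).symm
  exact EtMilLib.finiteType hsq E

theorem desc_flat : Desc RingHom.Flat RingHom.Flat := by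
  intro B' B A' A E D C _ _ _ _ _ _ _ _ _ _ _ _ _ _ _ _ _ _ _ _ _ _ _ _ _ hsq h₁ h₂ q₁ q₂
  rw [RingHom.flat_algebraMap_iff] at q₁ q₂ ⊢
  haveI : Module.Flat B (B ⊗[B'] E) := Module.Flat.of_linearEquiv (Algebra.IsPushout.equiv B' B E D).toLinearEquiv
  haveI : Module.Flat A' (A' ⊗[B'] E) := Module.Flat.of_linearEquiv (Algebra.IsPushout.equiv B' A' E C).toLinearEquiv
  exact EtMilLib.flat hsq

theorem desc_flat_finitePresentation :
    Desc (fun f => f.Flat ∧ f.FinitePresentation) (fun f => f.Flat ∧ f.FinitePresentation) := by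
  intro B' B A' A E D C _ _ _ _ _ _ _ _ _ _ _ _ _ _ _ _ _ _ _ _ _ _ _ _ _ hsq h₁ h₂ q₁ q₂
  refine ⟨desc_flat B' B A' A E D C hsq h₁ h₂ q₁.1 q₂.1, ?_⟩
  rw [RingHom.flat_algebraMap_iff, RingHom.finitePresentation_algebraMap] at q₁ q₂
  obtain ⟨_, _⟩ := q₁
  obtain ⟨_, _⟩ := q₂
  haveI : Module.Flat B (B ⊗[B'] E) := Module.Flat.of_linearEquiv (Algebra.IsPushout.equiv B' B E D).toLinearEquiv
  haveI : Module.Flat A' (A' ⊗[B'] E) := Module.Flat.of_linearEquiv (Algebra.IsPushout.equiv B' A' E C).toLinearEquiv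
  haveI : Algebra.FinitePresentation B (B ⊗[B'] E) :=
    Algebra.FinitePresentation.equiv (Algebra.IsPushout.equiv B' B E D).symm
  haveI : Algebra.FinitePresentation A' (A' ⊗[B'] E) :=
    Algebra.FinitePresentation.equiv (Algebra.IsPushout.equiv B' A' E C).symm
  rw [RingHom.finitePresentation_algebraMap]
  exact EtMilLib.finitePresentation_alg hsq E

theorem desc_smooth : Desc RingHom.Smooth RingHom.Smooth := by
  intro B' B A' A E D C _ _ _ _ _ _ _ _ _ _ _ _ _ _ _ _ _ _ _ _ _ _ _ _ _ hsq h₁ h₂ q₁ q₂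
  rw [RingHom.smooth_algebraMap] at q₁ q₂ ⊢
  haveI : Algebra.Smooth B (B ⊗[B'] E) := Algebra.Smooth.of_equiv (Algebra.IsPushout.equiv B' B E D).symm
  haveI : Algebra.Smooth A' (A' ⊗[B'] E) := Algebra.Smooth.of_equiv (Algebra.IsPushout.equiv B' A' E C).symm
  exact EtMilLib.smooth hsq E

theorem desc_etale : Desc RingHom.Etale RingHom.Etale := by
  intro B' B A' A E D C _ _ _ _ _ _ _ _ _ _ _ _ _ _ _ _ _ _ _ _ _ _ _ _ _ hsq h₁ h₂ q₁ q₂
  rw [RingHom.etale_iff_formallyUnramified_and_smooth] at q₁ q₂ ⊢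
  refine ⟨?_, desc_smooth B' B A' A E D C hsq h₁ h₂ q₁.2 q₂.2⟩
  rw [RingHom.formallyUnramified_algebraMap] at q₁ q₂ ⊢
  obtain ⟨_, -⟩ := q₁
  obtain ⟨_, -⟩ := q₂
  haveI : Subsingleton (B ⊗[B'] Ω[E⁄B']) := (KaehlerDifferential.tensorKaehlerEquivBase B' B E D).toEquiv.subsingleton
  haveI : Subsingleton (A' ⊗[B'] Ω[E⁄B']) := (KaehlerDifferential.tensorKaehlerEquivBase B' A' E C).toEquiv.subsingleton
  exact ⟨EtMilLib.subsingleton hsq Ω[E⁄B']⟩

/-- Both halves for a map of Milnor squares of commutative rings, given as squares in `CommRingCat`. -/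
theorem descend {Q₁ Q : ∀ {R S : Type u} [CommRing R] [CommRing S], (R →+* S) → Prop} (hd : Desc Q₁ Q)
    {R A' B A R' A'' B'' A₀ : CommRingCat.{u}} {α : R ⟶ A'} {β : R ⟶ B} {γ : A' ⟶ A} {δ : B ⟶ A}
    (sq : IsPullback α β γ δ) (hs : Function.Surjective γ.hom)
    {α' : R' ⟶ A''} {β' : R' ⟶ B''} {γ' : A'' ⟶ A₀} {δ' : B'' ⟶ A₀}
    (sq' : IsPullback α' β' γ' δ') (hs' : Function.Surjective γ'.hom)
    {h : R ⟶ R'} {f : A' ⟶ A''} {g : B ⟶ B''} {c : A ⟶ A₀}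
    (wf : α ≫ f = h ≫ α') (wg : β ≫ g = h ≫ β') (pX : IsPushout f γ γ' c) (pY : IsPushout g δ δ' c) :
    IsPushout h α α' f ∧ IsPushout h β β' g ∧ (Q₁ f.hom → Q₁ g.hom → Q h.hom) := by
  algebraize [h.hom, α.hom, β.hom, γ.hom, δ.hom, α'.hom, β'.hom, γ'.hom, δ'.hom, f.hom, g.hom, c.hom, δ'.hom, δ'.hom.comp β'.hom,
    δ.hom.comp β.hom, f.hom.comp α.hom, g.hom.comp β.hom, c.hom.comp δ.hom, c.hom.comp γ.hom]
  haveI : IsScalarTower R R' A'' := .of_algebraMap_eq fun x => ConcreteCategory.congr_hom wf x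
  haveI : IsScalarTower R R' B'' := .of_algebraMap_eq fun x => ConcreteCategory.congr_hom wg x
  haveI : IsScalarTower R A' A := .of_algebraMap_eq fun x => (ConcreteCategory.congr_hom sq.w x).symm
  haveI : IsScalarTower R' A'' A₀ := .of_algebraMap_eq fun x => (ConcreteCategory.congr_hom sq'.w x).symm
  haveI : IsScalarTower B B'' A₀ := .of_algebraMap_eq fun x => (ConcreteCategory.congr_hom pY.w x).symm
  haveI : IsScalarTower A' A'' A₀ := .of_algebraMap_eq fun x => (ConcreteCategory.congr_hom pX.w x).symm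
  have hT := sq.map (forget CommRingCat.{u})
  have hT' := sq'.map (forget CommRingCat.{u})
  have hsq : EtMil.IsFibreSquare R B A' A := ⟨hs, fun y z e => by
    obtain ⟨r, h1, h2⟩ := Types.exists_of_isPullback hT z y e.symm
    exact ⟨r, ⟨h2, h1⟩, fun r' hr' => Types.ext_of_isPullback hT (hr'.2.trans h1.symm) (hr'.1.trans h2.symm)⟩⟩
  have hsq' : EtMil.IsFibreSquare R' B'' A'' A₀ := ⟨hs', fun y z e => by
    obtain ⟨r, h1, h2⟩ := Types.exists_of_isPullback hT' z y e.symm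
    exact ⟨r, ⟨h2, h1⟩, fun r' hr' => Types.ext_of_isPullback hT' (hr'.2.trans h1.symm) (hr'.1.trans h2.symm)⟩⟩
  haveI : Algebra.IsPushout B B'' A A₀ := CommRingCat.isPushout_iff_isPushout.1 pY
  haveI : Algebra.IsPushout A' A'' A A₀ := CommRingCat.isPushout_iff_isPushout.1 pX
  haveI : Algebra.IsPushout B B'' A A₀ := inferInstance
  obtain ⟨hB, hA⟩ := EtMilLib.isPushout hsq R' B'' A'' A₀ hsq'
  haveI := hB.symm
  haveI := hA.symm
  exact ⟨CommRingCat.isPushout_iff_isPushout.2 hA.symm, CommRingCat.isPushout_iff_isPushout.2 hB.symm,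
    fun qf qg => hd R B A' A R' B'' A'' hsq hB hA qg qf⟩

theorem of_isPushout_cat {Q : ∀ {R S : Type u} [CommRing R] [CommRing S], (R →+* S) → Prop}
    (hbc : RingHom.IsStableUnderBaseChange Q) {R S R' S' : CommRingCat.{u}} {φ : R ⟶ S} {ψ : R ⟶ R'}
    {φ' : S ⟶ S'} {ψ' : R' ⟶ S'} (h : IsPushout φ ψ φ' ψ') (hφ : Q φ.hom) : Q ψ'.hom := by
  algebraize [φ.hom, ψ.hom, φ'.hom, ψ'.hom, φ'.hom.comp φ.hom]
  haveI : IsScalarTower R R' S' := .of_algebraMap_eq fun x => ConcreteCategory.congr_hom h.w x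
  haveI : Algebra.IsPushout R S R' S' := CommRingCat.isPushout_iff_isPushout.1 h
  haveI : Algebra.IsPushout R R' S S' := .symm inferInstance
  exact hbc R S R' S' hφ

section scheme

variable {X Y Z P X' Y' Z' P' : Scheme.{u}} {i : Z ⟶ X} {j : Z ⟶ Y} {a : X ⟶ P} {b : Y ⟶ P}
  {f : X' ⟶ X} {g : Y' ⟶ Y} {i' : Z' ⟶ X'} {j' : Z' ⟶ Y'} {c : Z' ⟶ Z}
  {a' : X' ⟶ P'} {b' : Y' ⟶ P'} {h : P' ⟶ P}

/-- Over small affine pieces a map of pinchings is a map of Milnor squares, and both branches are base changes of it. -/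
theorem exists_milnor_piece [IsClosedImmersion i] (hc : HasCharts i j) (hp : IsPinch i j a b)
    [IsClosedImmersion i'] (hc' : HasCharts i' j') (hp' : IsPinch i' j' a' b')
    (hX : IsPullback i' c f i) (hY : IsPullback j' c g j) (ha : a' ≫ h = f ≫ a) (hb : b' ≫ h = g ≫ b) (p : P') :
    ∃ (W : P.Opens) (W' : P'.Opens) (eh : W' ≤ h ⁻¹ᵁ W) (ef : a' ⁻¹ᵁ W' ≤ f ⁻¹ᵁ (a ⁻¹ᵁ W))
      (eg : b' ⁻¹ᵁ W' ≤ g ⁻¹ᵁ (b ⁻¹ᵁ W)),
      p ∈ W' ∧ Good i a b W ∧ Good i' a' b' W' ∧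
      IsPushout (h.appLE W W' eh) (a.appLE W (a ⁻¹ᵁ W) le_rfl) (a'.appLE W' (a' ⁻¹ᵁ W') le_rfl)
        (f.appLE (a ⁻¹ᵁ W) (a' ⁻¹ᵁ W') ef) ∧
      IsPushout (h.appLE W W' eh) (b.appLE W (b ⁻¹ᵁ W) le_rfl) (b'.appLE W' (b' ⁻¹ᵁ W') le_rfl)
        (g.appLE (b ⁻¹ᵁ W) (b' ⁻¹ᵁ W') eg) ∧
      ∀ {Q₁ Q : ∀ {R S : Type u} [CommRing R] [CommRing S], (R →+* S) → Prop}, Desc Q₁ Q →
        Q₁ (f.appLE (a ⁻¹ᵁ W) (a' ⁻¹ᵁ W') ef).hom → Q₁ (g.appLE (b ⁻¹ᵁ W) (b' ⁻¹ᵁ W') eg).hom →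
        Q (h.appLE W W' eh).hom := by
  obtain ⟨W, hW, hpW⟩ := exists_good hc hp (h p)
  obtain ⟨W₁, hW₁, hpW₁⟩ := exists_good hc' hp' p
  obtain ⟨r, hr, hpr⟩ := hW₁.affW.exists_basicOpen_le (V := h ⁻¹ᵁ W) ⟨p, hpW⟩ hpW₁
  have hW' := hW₁.basicOpen r
  have ef : a' ⁻¹ᵁ P'.basicOpen r ≤ f ⁻¹ᵁ (a ⁻¹ᵁ W) := fun x hx => by
    show a (f x) ∈ W
    rw [← Scheme.Hom.comp_apply, ← ha, Scheme.Hom.comp_apply]
    exact hr hx
  have eg : b' ⁻¹ᵁ P'.basicOpen r ≤ g ⁻¹ᵁ (b ⁻¹ᵁ W) := fun x hx => by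
    show b (g x) ∈ W
    rw [← Scheme.Hom.comp_apply, ← hb, Scheme.Hom.comp_apply]
    exact hr hx
  have w := w_of_isPinch hp
  have w' := w_of_isPinch hp'
  have hC : i' ⁻¹ᵁ (a' ⁻¹ᵁ P'.basicOpen r) ≤ c ⁻¹ᵁ (i ⁻¹ᵁ (a ⁻¹ᵁ W)) := fun z hz => by
    show a (i (c z)) ∈ W
    rw [← Scheme.Hom.comp_apply c i, ← hX.w, Scheme.Hom.comp_apply]
    exact ef hz
  obtain ⟨pX, -⟩ := isPushout_appLE hX hW.affX hW'.affX hW.affZ ef le_rfl (i' ⁻¹ᵁ (a' ⁻¹ᵁ P'.basicOpen r))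
    (le_antisymm (le_inf le_rfl hC) inf_le_left)
  obtain ⟨pY, -⟩ := isPushout_appLE hY hW.affY hW'.affY hW.affZ eg (le_preimage w W) (i' ⁻¹ᵁ (a' ⁻¹ᵁ P'.basicOpen r))
    (le_antisymm (le_inf (le_preimage w' _) hC) (inf_le_left.trans (preimage_eq w' _).ge))
  obtain ⟨d1, d2, d3⟩ := descend (Q₁ := fun _ => True) (Q := fun _ => True)
    (fun _ _ _ _ _ _ _ => fun _ _ _ _ _ => trivial)
    (isPullback_appLE hp W _ _ _ rfl rfl rfl (le_preimage w W)) (i.app_surjective _ hW.affX |> fun hs => by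
      rw [← Scheme.Hom.app_eq_appLE]; exact hs)
    (isPullback_appLE hp' (P'.basicOpen r) _ _ _ rfl rfl rfl (le_preimage w' _)) (by
      rw [← Scheme.Hom.app_eq_appLE]; exact i'.app_surjective _ hW'.affX)
    (h := h.appLE W (P'.basicOpen r) hr) (by simp only [Scheme.Hom.appLE_comp_appLE, ha])
    (by simp only [Scheme.Hom.appLE_comp_appLE, hb]) pX pY
  exact ⟨W, _, hr, ef, eg, hpr, hW, hW', d1, d2, fun hd q1 q2 => (descend hd
    (isPullback_appLE hp W _ _ _ rfl rfl rfl (le_preimage w W)) (by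
      rw [← Scheme.Hom.app_eq_appLE]; exact i.app_surjective _ hW.affX)
    (isPullback_appLE hp' (P'.basicOpen r) _ _ _ rfl rfl rfl (le_preimage w' _)) (by
      rw [← Scheme.Hom.app_eq_appLE]; exact i'.app_surjective _ hW'.affX)
    (h := h.appLE W (P'.basicOpen r) hr) (by simp only [Scheme.Hom.appLE_comp_appLE, ha])
    (by simp only [Scheme.Hom.appLE_comp_appLE, hb]) pX pY).2.2 q1 q2⟩

/-- A local property of morphisms with descent along Milnor squares. -/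
theorem of_desc {M : MorphismProperty Scheme.{u}} {Q₁ Q : ∀ {R S : Type u} [CommRing R] [CommRing S], (R →+* S) → Prop}
    [HasRingHomProperty M Q] (hd : Desc Q₁ Q)
    (hQ : RingHom.StableUnderCompositionWithLocalizationAwaySource Q)
    [IsClosedImmersion i] (hc : HasCharts i j) (hp : IsPinch i j a b)
    [IsClosedImmersion i'] (hc' : HasCharts i' j') (hp' : IsPinch i' j' a' b')
    (hX : IsPullback i' c f i) (hY : IsPullback j' c g j) (ha : a' ≫ h = f ≫ a) (hb : b' ≫ h = g ≫ b)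
    (hf : ∀ (U : X.affineOpens) (V : X'.affineOpens) (e : V.1 ≤ f ⁻¹ᵁ U.1), Q₁ (f.appLE U V e).hom)
    (hg : ∀ (U : Y.affineOpens) (V : Y'.affineOpens) (e : V.1 ≤ g ⁻¹ᵁ U.1), Q₁ (g.appLE U V e).hom) : M h := by
  rw [HasRingHomProperty.iff_exists_appLE (P := M) hQ]
  intro p
  obtain ⟨W, W', eh, ef, eg, hpW, hW, hW', -, -, hd'⟩ := exists_milnor_piece hc hp hc' hp' hX hY ha hb p
  exact ⟨⟨W, hW.affW⟩, ⟨W', hW'.affW⟩, hpW, eh, hd' hd
    (hf ⟨_, hW.affX⟩ ⟨_, hW'.affX⟩ ef)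
    (hg ⟨_, hW.affY⟩ ⟨_, hW'.affY⟩ eg)⟩

/-- The two branches inherit stable local properties of the map. -/
theorem branches_of {M : MorphismProperty Scheme.{u}} {Q : ∀ {R S : Type u} [CommRing R] [CommRing S], (R →+* S) → Prop}
    [HasRingHomProperty M Q] (hbc : RingHom.IsStableUnderBaseChange Q)
    (hQ : RingHom.StableUnderCompositionWithLocalizationAwaySource Q)
    [IsClosedImmersion i] (hc : HasCharts i j) (hp : IsPinch i j a b)
    [IsClosedImmersion i'] (hc' : HasCharts i' j') (hp' : IsPinch i' j' a' b')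
    (hX : IsPullback i' c f i) (hY : IsPullback j' c g j) (ha : a' ≫ h = f ≫ a) (hb : b' ≫ h = g ≫ b)
    (hh : M h) : M f ∧ M g := by
  constructor <;> rw [HasRingHomProperty.iff_exists_appLE (P := M) hQ] <;> intro x
  · obtain ⟨W, W', eh, ef, eg, hpW, hW, hW', dX, -, -⟩ := exists_milnor_piece hc hp hc' hp' hX hY ha hb (a' x)
    exact ⟨⟨_, hW.affX⟩, ⟨_, hW'.affX⟩, hpW, ef,
      of_isPushout_cat hbc dX (HasRingHomProperty.appLE (P := M) h hh ⟨_, hW.affW⟩ ⟨_, hW'.affW⟩ eh)⟩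
  · obtain ⟨W, W', eh, ef, eg, hpW, hW, hW', -, dY, -⟩ := exists_milnor_piece hc hp hc' hp' hX hY ha hb (b' x)
    exact ⟨⟨_, hW.affY⟩, ⟨_, hW'.affY⟩, hpW, eg,
      of_isPushout_cat hbc dY (HasRingHomProperty.appLE (P := M) h hh ⟨_, hW.affW⟩ ⟨_, hW'.affW⟩ eh)⟩

end scheme

end Groth.Agent.Pinch
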