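import Groth.Agent.Pinch.Glue

/-! Properties of the two maps into a pinched scheme. -/

set_option autoImplicit false
set_option backward.isDefEq.respectTransparency false
set_option linter.style.haveILetI false

universe u

open CategoryTheory Limits AlgebraicGeometry TopologicalSpace Opposite

namespace Groth.Agent.Pinch

/-- Transfer of integrality along a fibre product. -/
theorem isIntegral_of_square {R A' B A : Type u} [CommRing R] [CommRing A'] [CommRing B] [CommRing A]
    (πA : R →+* A') (πB : R →+* B) (p : A' →+* A) (q : B →+* A) (w : ∀ r, q (πB r) = p (πA r))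
    (hB : Function.Surjective πB) (hker : ∀ k, p k = 0 → ∃ r, πA r = k) (hq : q.IsIntegral) : πA.IsIntegral := by
  intro x
  obtain ⟨P, hP, hPx⟩ := hq (p x)
  choose d hd using fun k => hB (P.coeff k)
  let n := P.natDegree
  let P₀ : Polynomial R := Polynomial.X ^ (n + 1) + ∑ k ∈ Finset.range n, Polynomial.C (d k) * Polynomial.X ^ (k + 1)
  have e0 : p (P₀.eval₂ πA x) = p x * P.eval₂ q (p x) := by
    rw [Polynomial.eval₂_eq_sum_range q (p x) (p := P), Finset.sum_range_succ, hP.coeff_natDegree, map_one, one_mul,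
      mul_add, Finset.mul_sum]
    simp only [P₀, Polynomial.eval₂_add, Polynomial.eval₂_finset_sum, Polynomial.eval₂_mul, Polynomial.eval₂_C,
      Polynomial.eval₂_X_pow, map_add, map_sum, map_mul, map_pow, ← w, hd]
    rw [add_comm]
    refine congrArg₂ _ (Finset.sum_congr rfl fun k _ => by ring) (by rw [pow_succ, mul_comm])
  obtain ⟨r, hr⟩ := hker (P₀.eval₂ πA x) (by rw [e0, hPx, mul_zero])
  refine ⟨Polynomial.X ^ (n + 1) + (∑ k ∈ Finset.range n, Polynomial.C (d k) * Polynomial.X ^ (k + 1) - Polynomial.C r),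
    Polynomial.monic_X_pow_add ?_, ?_⟩
  · refine lt_of_le_of_lt (Polynomial.degree_sub_le _ _) (max_lt ?_ ?_)
    · refine (Polynomial.degree_sum_le _ _).trans_lt ((Finset.sup_lt_iff (WithBot.bot_lt_coe _)).2 fun k hk => ?_)
      exact (Polynomial.degree_C_mul_X_pow_le (k + 1) (d k)).trans_lt
        (by exact_mod_cast Nat.succ_lt_succ (Finset.mem_range.1 hk))
    · exact Polynomial.degree_C_le.trans_lt (by exact_mod_cast Nat.succ_pos n)
  · rw [← add_sub_assoc, Polynomial.eval₂_sub, Polynomial.eval₂_C, hr, sub_self]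

/-- Transfer of finiteness along a fibre product. -/
theorem finite_of_square {R A' B A : Type u} [CommRing R] [CommRing A'] [CommRing B] [CommRing A]
    (πA : R →+* A') (πB : R →+* B) (p : A' →+* A) (q : B →+* A) (w : ∀ r, q (πB r) = p (πA r))
    (hp : Function.Surjective p) (hB : Function.Surjective πB) (hker : ∀ k, p k = 0 → ∃ r, πA r = k) (hq : q.Finite) :
    πA.Finite := by
  classical
  letI := πA.toAlgebra
  letI := q.toAlgebra
  haveI : Module.Finite B A := hq
  obtain ⟨S, hS⟩ := Module.Finite.fg_top (R := B) (M := A)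
  let σ : A → A' := Function.surjInv hp
  refine ⟨insert (1 : A') (S.image σ), ?_⟩
  rw [eq_top_iff]
  intro x _
  have hx : p x ∈ Submodule.span B (S : Set A) := hS ▸ Submodule.mem_top
  obtain ⟨c, -, hc⟩ := Submodule.mem_span_finset.1 hx
  choose d hd using fun s => hB (c s)
  obtain ⟨r, hr⟩ := hker (x - ∑ s ∈ S, d s • σ s) (by
    rw [map_sub, map_sum, ← hc, sub_eq_zero]
    refine Finset.sum_congr rfl fun s _ => ?_
    rw [Algebra.smul_def, Algebra.smul_def, map_mul, RingHom.algebraMap_toAlgebra, RingHom.algebraMap_toAlgebra,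
      ← w, hd, Function.surjInv_eq hp])
  have : x = r • (1 : A') + ∑ s ∈ S, d s • σ s := by
    rw [Algebra.smul_def, mul_one]
    exact (eq_add_of_sub_eq hr.symm)
  rw [this]
  refine add_mem (Submodule.smul_mem _ _ (Submodule.subset_span (by simp))) (sum_mem fun s hs => ?_)
  exact Submodule.smul_mem _ _ (Submodule.subset_span (by simp only [Finset.coe_insert, Finset.coe_image]; exact Or.inr ⟨s, hs, rfl⟩))

variable {Z X Y P : Scheme.{u}} {i : Z ⟶ X} {j : Z ⟶ Y} {a : X ⟶ P} {b : Y ⟶ P}

section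
variable [IsClosedImmersion i] (h : IsPinch i j a b) {W : P.Opens} (hU : IsAffineOpen (a ⁻¹ᵁ W))
include h hU

/-- `j` followed by the identification of the two preimages in `Z`. -/
abbrev qW (W : P.Opens) : Γ(Y, b ⁻¹ᵁ W) →+* Γ(Z, i ⁻¹ᵁ (a ⁻¹ᵁ W)) :=
  (Z.presheaf.map (eqToHom (congrArg op (preimage_eq (w_of_isPinch h) W).symm))).hom.comp (j.app (b ⁻¹ᵁ W)).hom

theorem b_app_surjective : Function.Surjective (b.app W).hom := fun t => by
  obtain ⟨s, hs⟩ := i.app_surjective _ hU (qW h W t)
  obtain ⟨r, -, hr⟩ := (secAt_of_isPinch h W).2 s t hs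
  exact ⟨r, hr⟩

theorem exists_of_ker (k : Γ(X, a ⁻¹ᵁ W)) (hk : (i.app (a ⁻¹ᵁ W)).hom k = 0) :
    ∃ r, (a.app W).hom r = k ∧ (b.app W).hom r = 0 :=
  (secAt_of_isPinch h W).2 k 0 (by rw [Compat, hk, map_zero, map_zero])

theorem a_app_isIntegral (hq : (qW h W).IsIntegral) : (a.app W).hom.IsIntegral :=
  isIntegral_of_square _ _ _ _ (fun r => (compat_app (w_of_isPinch h) W r).symm) (b_app_surjective h hU)
    (fun k hk => (exists_of_ker h hU k hk).imp fun _ hr => hr.1) hq

theorem a_app_finite (hq : (qW h W).Finite) : (a.app W).hom.Finite :=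
  finite_of_square _ _ _ _ (fun r => (compat_app (w_of_isPinch h) W r).symm) (i.app_surjective _ hU)
    (b_app_surjective h hU) (fun k hk => (exists_of_ker h hU k hk).imp fun _ hr => hr.1) hq

end

variable (i j a b) in
/-- An affine open of the target with affine saturated preimages. -/
structure Good (W : P.Opens) : Prop where
  affW : IsAffineOpen W
  affX : IsAffineOpen (a ⁻¹ᵁ W)
  affY : IsAffineOpen (b ⁻¹ᵁ W)
  affZ : IsAffineOpen (i ⁻¹ᵁ (a ⁻¹ᵁ W))

theorem Good.affX' {W : P.Opens} (h : Good i a b W) : IsAffineOpen (a ⁻¹ᵁ W.ι ''ᵁ ⊤) := by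
  rw [Scheme.Opens.ι_image_top]; exact h.affX

theorem Good.affY' {W : P.Opens} (h : Good i a b W) : IsAffineOpen (b ⁻¹ᵁ W.ι ''ᵁ ⊤) := by
  rw [Scheme.Opens.ι_image_top]; exact h.affY

theorem exists_good [IsClosedImmersion i] (hc : HasCharts i j) (h : IsPinch i j a b) (p : P) :
    ∃ W, Good i a b W ∧ p ∈ W := by
  obtain ⟨U, V, W, hUV, hW, hp, rfl, rfl⟩ := exists_chart_at hc h p
  exact ⟨W, ⟨hW, hUV.affX, hUV.affY, hUV.affZ⟩, hp⟩

theorem iSup_good [IsClosedImmersion i] (hc : HasCharts i j) (h : IsPinch i j a b) :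
    ⨆ W : {W // Good i a b W}, W.1 = (⊤ : P.Opens) :=
  top_le_iff.1 fun p _ => Opens.mem_iSup.2 (let ⟨W, hW, hp⟩ := exists_good hc h p; ⟨⟨W, hW⟩, hp⟩)

theorem isClosedImmersion_b [IsClosedImmersion i] (hc : HasCharts i j) (h : IsPinch i j a b) :
    IsClosedImmersion b := by
  refine IsZariskiLocalAtTarget.of_iSup_eq_top (P := @IsClosedImmersion) _ (iSup_good hc h) fun W => ?_
  haveI : IsAffine (W.1 : Scheme.{u}) := W.2.affW
  rw [HasAffineProperty.iff_of_isAffine (P := @IsClosedImmersion)]
  refine ⟨W.2.affY, ?_⟩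
  rw [morphismRestrict_appTop]
  refine Function.Surjective.comp (g := (Y.presheaf.map _).hom) (f := (b.app _).hom) (ConcreteCategory.bijective_of_isIso _).surjective ?_
  exact b_app_surjective h W.2.affX'

theorem isAffineHom_a [IsClosedImmersion i] (hc : HasCharts i j) (h : IsPinch i j a b) : IsAffineHom a := by
  refine isAffineHom_of_forall_exists_isAffineOpen a fun p => ?_
  obtain ⟨W, hW, hp⟩ := exists_good hc h p
  exact ⟨W, hp, hW.affW, hW.affX⟩

theorem isFinite_a [IsClosedImmersion i] [IsFinite j] (hc : HasCharts i j) (h : IsPinch i j a b) : IsFinite a := by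
  refine IsZariskiLocalAtTarget.of_iSup_eq_top (P := @IsFinite) _ (iSup_good hc h) fun W => ?_
  haveI : IsAffine (W.1 : Scheme.{u}) := W.2.affW
  rw [HasAffineProperty.iff_of_isAffine (P := @IsFinite)]
  refine ⟨W.2.affX, ?_⟩
  rw [morphismRestrict_appTop]
  erw [CommRingCat.hom_comp]
  refine RingHom.Finite.comp (RingHom.Finite.of_surjective _ (ConcreteCategory.bijective_of_isIso _).surjective) ?_
  refine a_app_finite h W.2.affX' ?_
  refine RingHom.Finite.comp (RingHom.Finite.of_surjective _ (ConcreteCategory.bijective_of_isIso _).surjective) ?_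
  exact IsFinite.finite_app (f := j) _ W.2.affY'

theorem isIntegralHom_a [IsClosedImmersion i] [IsIntegralHom j] (hc : HasCharts i j) (h : IsPinch i j a b) :
    IsIntegralHom a := by
  refine IsZariskiLocalAtTarget.of_iSup_eq_top (P := @IsIntegralHom) _ (iSup_good hc h) fun W => ?_
  haveI : IsAffine (W.1 : Scheme.{u}) := W.2.affW
  rw [HasAffineProperty.iff_of_isAffine (P := @IsIntegralHom)]
  refine ⟨W.2.affX, ?_⟩
  show (a ∣_ W.1).appTop.hom.IsIntegral
  rw [morphismRestrict_appTop]
  erw [CommRingCat.hom_comp]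
  refine RingHom.IsIntegral.trans _ _ ?_ (RingHom.isIntegral_of_surjective _ (ConcreteCategory.bijective_of_isIso _).surjective)
  refine a_app_isIntegral h W.2.affX' ?_
  refine RingHom.IsIntegral.trans _ _ ?_ (RingHom.isIntegral_of_surjective _ (ConcreteCategory.bijective_of_isIso _).surjective)
  exact IsIntegralHom.isIntegral_app (f := j) _ W.2.affY'

theorem isPullback [IsClosedImmersion i] (hc : HasCharts i j) (h : IsPinch i j a b) : IsPullback i j a b := by
  haveI := isClosedImmersion_b hc h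
  haveI : Mono b := inferInstance
  have hcov : ⨆ W : {W // Good i a b W}, a ⁻¹ᵁ W.1 = (⊤ : X.Opens) :=
    top_le_iff.1 fun x _ => Opens.mem_iSup.2 (let ⟨W, hW, hp⟩ := exists_good hc h (a x); ⟨⟨W, hW⟩, hp⟩)
  have hw := w_of_isPinch h
  refine isPullback_of_isClosedImmersion i b j a hw ?_
  rw [← Scheme.IdealSheafData.ker_fst_of_isClosedImmersion b a]
  refine le_antisymm ?_ ?_
  · have := (pullback.lift i j hw).le_ker_comp (pullback.fst a b)
    rwa [pullback.lift_fst] at this
  · refine Scheme.IdealSheafData.le_of_iSup_eq_top (fun W : {W // Good i a b W} => ⟨a ⁻¹ᵁ W.1, W.2.affX⟩) hcov fun W => ?_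
    intro k hk
    rw [Scheme.Hom.ker_apply, RingHom.mem_ker] at hk ⊢
    obtain ⟨r, hr, hr0⟩ := exists_of_ker h W.2.affX k hk
    have e := ConcreteCategory.congr_hom (Scheme.Hom.congr_app (pullback.condition (f := a) (g := b)) W.1) r
    simp only [Scheme.Hom.comp_app, CommRingCat.comp_apply] at e
    erw [hr, hr0] at e
    erw [map_zero, map_zero] at e
    exact e

end Groth.Agent.Pinch
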