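import Groth.Agent.Pinch.Props
import Groth.Agent.Pinch.BaseChange
import Mathlib.RingTheory.Adjoin.Tower
import Mathlib.AlgebraicGeometry.Morphisms.Proper

/-! Finiteness properties of a pinched scheme over a base. -/

set_option autoImplicit false
set_option backward.isDefEq.respectTransparency false
set_option linter.style.haveILetI false

universe u

open CategoryTheory Limits AlgebraicGeometry TopologicalSpace Opposite

namespace Groth.Agent.Pinch

/-- Artin–Tate for a ring inside a product of two finite type algebras. -/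
theorem finiteType_of_jointly_injective {A R A' B : Type u} [CommRing A] [CommRing R] [CommRing A'] [CommRing B]
    [IsNoetherianRing A] (φ : A →+* R) (πA : R →+* A') (πB : R →+* B)
    (hinj : ∀ r, πA r = 0 → πB r = 0 → r = 0) (hA : πA.IsIntegral) (hB : πB.IsIntegral)
    (h1 : (πA.comp φ).FiniteType) (h2 : (πB.comp φ).FiniteType) : φ.FiniteType := by
  have fA : πA.Finite := RingHom.IsIntegral.to_finite hA (RingHom.FiniteType.of_comp_finiteType h1)
  have fB : πB.Finite := RingHom.IsIntegral.to_finite hB (RingHom.FiniteType.of_comp_finiteType h2)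
  algebraize [φ, πA, πB, πA.comp φ, πB.comp φ]
  letI : Algebra R (A' × B) := Prod.algebra R A' B
  haveI : IsScalarTower A R (A' × B) := IsScalarTower.of_algebraMap_eq fun _ => rfl
  refine ⟨fg_of_fg_of_fg A R (A' × B) (inferInstance : Algebra.FiniteType A (A' × B)).out
    (inferInstance : Module.Finite R (A' × B)).fg_top ?_⟩
  exact (injective_iff_map_eq_zero _).2 fun r hr =>
    hinj r (congrArg Prod.fst hr) (congrArg Prod.snd hr)

variable {Z X Y P S : Scheme.{u}} {i : Z ⟶ X} {j : Z ⟶ Y} {a : X ⟶ P} {b : Y ⟶ P}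

theorem locallyOfFiniteType_of_isPinch [IsClosedImmersion i] [IsIntegralHom j] (hc : HasCharts i j)
    (h : IsPinch i j a b) (r : P ⟶ S) [IsLocallyNoetherian S] [LocallyOfFiniteType (a ≫ r)]
    [LocallyOfFiniteType (b ≫ r)] : LocallyOfFiniteType r := by
  haveI := isIntegralHom_a hc h
  haveI := isClosedImmersion_b hc h
  rw [HasRingHomProperty.iff_exists_appLE (P := @LocallyOfFiniteType)
    (RingHom.finiteType_stableUnderComposition.stableUnderCompositionWithLocalizationAway
      RingHom.finiteType_holdsForLocalizationAway).1]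
  intro p
  obtain ⟨U, hU, hpU, -⟩ := exists_isAffineOpen_mem_and_subset (U := (⊤ : S.Opens)) (x := r p) trivial
  obtain ⟨W₀, hW₀, hp⟩ := exists_good hc h p
  obtain ⟨f, hf, hpf⟩ := hW₀.affW.exists_basicOpen_le (V := r ⁻¹ᵁ U) ⟨p, hpU⟩ hp
  have hW := hW₀.basicOpen f
  haveI : IsNoetherianRing Γ(S, U) := IsLocallyNoetherian.component_noetherian ⟨U, hU⟩
  refine ⟨⟨U, hU⟩, ⟨_, hW.affW⟩, hpf, hf, ?_⟩
  refine finiteType_of_jointly_injective _ (a.app (P.basicOpen f)).hom (b.app (P.basicOpen f)).hom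
    (fun x hxa hxb => (secAt_of_isPinch h _).1 x 0 (by rw [hxa, map_zero]) (by rw [hxb, map_zero]))
    (IsIntegralHom.isIntegral_app (f := a) _ hW.affW)
    (IsIntegralHom.isIntegral_app (f := b) _ hW.affW) ?_ ?_
  · rw [← CommRingCat.hom_comp, a.app_eq_appLE, Scheme.Hom.appLE_comp_appLE]
    exact HasRingHomProperty.appLE (P := @LocallyOfFiniteType) (a ≫ r) ‹_› ⟨U, hU⟩ ⟨_, hW.affX⟩ fun x hx => hf hx
  · rw [← CommRingCat.hom_comp, b.app_eq_appLE, Scheme.Hom.appLE_comp_appLE]
    exact HasRingHomProperty.appLE (P := @LocallyOfFiniteType) (b ≫ r) ‹_› ⟨U, hU⟩ ⟨_, hW.affY⟩ fun y hy => hf hy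

theorem quasiCompact_of_jointly_surjective (hs : ∀ p : P, (∃ x, a x = p) ∨ ∃ y, b y = p) (r : P ⟶ S)
    [QuasiCompact (a ≫ r)] [QuasiCompact (b ≫ r)] : QuasiCompact r := by
  rw [quasiCompact_iff_forall_isAffineOpen]
  intro U hU
  have e : (r ⁻¹ᵁ U : Set P) = a '' ((a ≫ r) ⁻¹ᵁ U : Set X) ∪ b '' ((b ≫ r) ⁻¹ᵁ U : Set Y) := by
    ext p
    refine ⟨fun hp => ?_, ?_⟩
    · rcases hs p with ⟨x, rfl⟩ | ⟨y, rfl⟩
      exacts [Or.inl ⟨x, hp, rfl⟩, Or.inr ⟨y, hp, rfl⟩]
    · rintro (⟨x, hx, rfl⟩ | ⟨y, hy, rfl⟩)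
      exacts [hx, hy]
  rw [e]
  exact ((QuasiCompact.isCompact_preimage (f := a ≫ r) _ U.isOpen hU.isCompact).image a.continuous).union
    ((QuasiCompact.isCompact_preimage (f := b ≫ r) _ U.isOpen hU.isCompact).image b.continuous)

theorem universallyClosed_of_jointly_surjective (hs : ∀ p : P, (∃ x, a x = p) ∨ ∃ y, b y = p) (r : P ⟶ S)
    [UniversallyClosed (a ≫ r)] [UniversallyClosed (b ≫ r)] : UniversallyClosed r := by
  constructor
  intro P' S' pP pS r' sq C hC
  have ha : IsClosedMap (pullback.snd a pP ≫ r') :=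
    UniversallyClosed.universally_isClosedMap (f := a ≫ r) _ _ _ ((IsPullback.of_hasPullback a pP).flip.paste_horiz sq)
  have hb : IsClosedMap (pullback.snd b pP ≫ r') :=
    UniversallyClosed.universally_isClosedMap (f := b ≫ r) _ _ _ ((IsPullback.of_hasPullback b pP).flip.paste_horiz sq)
  have e : r' '' C = (pullback.snd a pP ≫ r') '' (pullback.snd a pP ⁻¹' C) ∪
      (pullback.snd b pP ≫ r') '' (pullback.snd b pP ⁻¹' C) := by
    ext y
    constructor
    · rintro ⟨c, hc, rfl⟩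
      rcases hs (pP c) with ⟨x, hx⟩ | ⟨z, hz⟩
      · obtain ⟨w, -, hw⟩ := Scheme.Pullback.exists_preimage_pullback (f := a) (g := pP) x c hx
        exact Or.inl ⟨w, show _ ∈ C by rwa [hw], by rw [Scheme.Hom.comp_apply, hw]⟩
      · obtain ⟨w, -, hw⟩ := Scheme.Pullback.exists_preimage_pullback (f := b) (g := pP) z c hz
        exact Or.inr ⟨w, show _ ∈ C by rwa [hw], by rw [Scheme.Hom.comp_apply, hw]⟩
    · rintro (⟨w, hw, rfl⟩ | ⟨w, hw, rfl⟩) <;> exact ⟨_, hw, rfl⟩
  rw [e]
  exact (ha _ (hC.preimage (pullback.snd a pP).continuous)).union (hb _ (hC.preimage (pullback.snd b pP).continuous))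

end Groth.Agent.Pinch
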