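import Groth.Agent.Pinch.Basic
import Groth.Agent.S6917

/-! A fibre product of rings along a surjection gives a pinched affine scheme. -/

set_option autoImplicit false
set_option backward.isDefEq.respectTransparency false
set_option backward.isDefEq.respectTransparency.types false
set_option linter.style.haveILetI false

universe u

open CategoryTheory Limits AlgebraicGeometry TopologicalSpace Opposite

namespace Groth.Agent.Pinch

/-- Global functions restricted to an open subset of a spectrum. -/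
noncomputable def ev (R : CommRingCat.{u}) (U : (Spec R).Opens) : R →+* Γ(Spec R, U) :=
  ((Scheme.ΓSpecIso R).inv ≫ (Spec R).presheaf.map (homOfLE le_top).op).hom

theorem ev_map {R S : CommRingCat.{u}} (φ : R ⟶ S) (U : (Spec R).Opens) (r : R) :
    ((Spec.map φ).app U).hom (ev R U r) = ev S (Spec.map φ ⁻¹ᵁ U) (φ.hom r) := by
  have h : (Scheme.ΓSpecIso R).inv ≫ (Spec R).presheaf.map (homOfLE (le_top : U ≤ ⊤)).op ≫ (Spec.map φ).app U =
      φ ≫ (Scheme.ΓSpecIso S).inv ≫ (Spec S).presheaf.map (homOfLE (le_top : Spec.map φ ⁻¹ᵁ U ≤ ⊤)).op := by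
    rw [Scheme.ΓSpecIso_inv_naturality_assoc]
    erw [(Spec.map φ).naturality]
  exact ConcreteCategory.congr_hom h r

theorem ev_res (R : CommRingCat.{u}) {U V : (Spec R).Opens} (e : op U ⟶ op V) (r : R) :
    ((Spec R).presheaf.map e).hom (ev R U r) = ev R V r := by
  show ((Scheme.ΓSpecIso R).inv ≫ (Spec R).presheaf.map (homOfLE le_top).op ≫ (Spec R).presheaf.map e).hom r = _
  rw [← Functor.map_comp]
  rfl

theorem ev_isUnit (R : CommRingCat.{u}) (f : R) : IsUnit (ev R (PrimeSpectrum.basicOpen f) f) :=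
  IsLocalization.Away.algebraMap_isUnit (S := (Spec.structureSheaf R).1.obj (op (PrimeSpectrum.basicOpen f))) f

theorem ev_surj (R : CommRingCat.{u}) (f : R) (z : Γ(Spec R, PrimeSpectrum.basicOpen f)) :
    ∃ n a, z * ev R _ f ^ n = ev R _ a :=
  IsLocalization.Away.surj (S := (Spec.structureSheaf R).1.obj (op (PrimeSpectrum.basicOpen f))) f z

theorem ev_eq_zero (R : CommRingCat.{u}) (f a : R) (h : ev R (PrimeSpectrum.basicOpen f) a = 0) :
    ∃ n : ℕ, f ^ n * a = 0 := by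
  obtain ⟨⟨_, n, rfl⟩, hn⟩ := (IsLocalization.map_eq_zero_iff (Submonoid.powers f)
    ((Spec.structureSheaf R).1.obj (op (PrimeSpectrum.basicOpen f))) a).1 h
  exact ⟨n, hn⟩

/-- Localisations of a fibre product of rings form a fibre product. -/
theorem glue_loc {R B A' A Rf Bf Af Cf : Type u} [CommRing R] [CommRing B] [CommRing A'] [CommRing A]
    [CommRing Rf] [CommRing Bf] [CommRing Af] [CommRing Cf] (πB : R →+* B) (πA : R →+* A') (q : B →+* A)
    (p : A' →+* A) (w : ∀ x, q (πB x) = p (πA x)) (hex : ∀ b a, q b = p a → ∃ r, πB r = b ∧ πA r = a)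
    (hinj : ∀ r r', πB r = πB r' → πA r = πA r' → r = r') (f : R)
    (eR : R →+* Rf) (eB : B →+* Bf) (eA : A' →+* Af) (eC : A →+* Cf)
    (α : Rf →+* Af) (β : Rf →+* Bf) (γ : Af →+* Cf) (δ : Bf →+* Cf)
    (hα : ∀ x, α (eR x) = eA (πA x)) (hβ : ∀ x, β (eR x) = eB (πB x))
    (hγ : ∀ x, γ (eA x) = eC (p x)) (hδ : ∀ x, δ (eB x) = eC (q x))
    (huR : IsUnit (eR f)) (sR : ∀ z, ∃ n a, z * eR f ^ n = eR a)
    (sA : ∀ z, ∃ n a, z * eA (πA f) ^ n = eA a) (sB : ∀ z, ∃ n a, z * eB (πB f) ^ n = eB a)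
    (zA : ∀ a, eA a = 0 → ∃ n : ℕ, πA f ^ n * a = 0) (zB : ∀ a, eB a = 0 → ∃ n : ℕ, πB f ^ n * a = 0)
    (zC : ∀ a, eC a = 0 → ∃ n : ℕ, p (πA f) ^ n * a = 0) :
    (∀ r r', α r = α r' → β r = β r' → r = r') ∧
      ∀ s t, γ s = δ t → ∃ r, α r = s ∧ β r = t := by
  refine ⟨fun r r' h1 h2 => ?_, fun s t hst => ?_⟩
  · rw [← sub_eq_zero]
    obtain ⟨n, x, hx⟩ := sR (r - r')
    obtain ⟨m₁, hm₁⟩ := zA (πA x) (by rw [← hα, ← hx, map_mul, map_sub, h1, sub_self, zero_mul])
    obtain ⟨m₂, hm₂⟩ := zB (πB x) (by rw [← hβ, ← hx, map_mul, map_sub, h2, sub_self, zero_mul])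
    have hz : f ^ (m₁ + m₂) * x = 0 := by
      refine hinj _ _ ?_ ?_
      · rw [map_mul, map_pow, map_zero, pow_add, mul_assoc, hm₂, mul_zero]
      · rw [map_mul, map_pow, map_zero, pow_add, mul_comm (πA f ^ m₁), mul_assoc, hm₁, mul_zero]
    refine (huR.pow (m₁ + m₂ + n)).mul_left_eq_zero.1 ?_
    rw [pow_add, mul_comm (eR f ^ (m₁ + m₂)), ← mul_assoc, hx, ← map_pow, mul_comm, ← map_mul, hz, map_zero]
  · obtain ⟨n₁, a, ha⟩ := sA s
    obtain ⟨n₂, b, hb⟩ := sB t
    let g := p (πA f)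
    have hg : q (πB f) = g := w f
    have e1 : γ s * eC g ^ n₁ = eC (p a) := by rw [← hγ, ← hγ, ← ha, map_mul, map_pow]
    have e2 : δ t * eC g ^ n₂ = eC (q b) := by rw [← hg, ← hδ, ← hδ, ← hb, map_mul, map_pow]
    obtain ⟨k, hk⟩ := zC (g ^ n₂ * p a - g ^ n₁ * q b) (by
      rw [map_sub, map_mul, map_mul, map_pow, map_pow, ← e1, ← e2, hst]
      ring)
    obtain ⟨x, hx1, hx2⟩ := hex (πB f ^ (k + n₁) * b) (πA f ^ (k + n₂) * a) (by
      rw [map_mul, map_mul, map_pow, map_pow, hg]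
      rw [mul_sub, sub_eq_zero] at hk
      rw [pow_add, pow_add, mul_assoc, mul_assoc]
      exact hk.symm)
    obtain ⟨v, hv⟩ := (huR.pow (k + n₁ + n₂)).exists_right_inv
    refine ⟨eR x * v, ?_, ?_⟩
    · have hv' := congrArg α hv
      rw [map_mul, map_pow, hα, map_one] at hv'
      rw [map_mul, hα, hx2, map_mul, map_pow, ← ha]
      linear_combination s * hv'
    · have hv' := congrArg β hv
      rw [map_mul, map_pow, hβ, map_one] at hv'
      rw [map_mul, hβ, hx1, map_mul, map_pow, ← hb]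
      linear_combination t * hv'

section
variable {R B A' A : CommRingCat.{u}} (πB : R ⟶ B) (πA : R ⟶ A') (q : B ⟶ A) (p : A' ⟶ A)
  (w : πA ≫ p = πB ≫ q) (hp : Function.Surjective p.hom)
  (hex : ∀ b a, q.hom b = p.hom a → ∃ r, πB.hom r = b ∧ πA.hom r = a)
  (hinj : ∀ r r', πB.hom r = πB.hom r' → πA.hom r = πA.hom r' → r = r')

include w hp hex hinj

theorem spec_isPinch : IsPinch (Spec.map p) (Spec.map q) (Spec.map πA) (Spec.map πB) := by
  have ws : Spec.map p ≫ Spec.map πA = Spec.map q ≫ Spec.map πB := by rw [← Spec.map_comp, ← Spec.map_comp, w]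
  refine isPinch_of_secAt ws ?_ (secAt_of_isBasis ws PrimeSpectrum.isBasis_basic_opens ?_)
  · letI := πB.hom.toAlgebra; letI := πA.hom.toAlgebra; letI := q.hom.toAlgebra; letI := p.hom.toAlgebra
    letI : Algebra R A := (πA ≫ p).hom.toAlgebra
    haveI : IsScalarTower R A' A := IsScalarTower.of_algebraMap_eq fun _ => rfl
    haveI : IsScalarTower R B A := IsScalarTower.of_algebraMap_eq fun x =>
      ConcreteCategory.congr_hom w x
    exact (S6917.result R B A' A ⟨hp, fun b a h => by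
      obtain ⟨r, hr⟩ := hex b a h
      exact ⟨r, hr, fun r' hr' => hinj _ _ (hr'.1.trans hr.1.symm) (hr'.2.trans hr.2.symm)⟩⟩).flip
  rintro _ ⟨f, rfl⟩
  let g := p.hom (πA.hom f)
  have hg : q.hom (πB.hom f) = g := (ConcreteCategory.congr_hom w f).symm
  let res := (Spec A).presheaf.map (eqToHom (congrArg op (preimage_eq ws (PrimeSpectrum.basicOpen f)).symm))
  let γ : Γ(Spec A', PrimeSpectrum.basicOpen (πA.hom f)) →+* Γ(Spec A, PrimeSpectrum.basicOpen g) :=
    ((Spec.map p).app (PrimeSpectrum.basicOpen (πA.hom f))).hom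
  let δ : Γ(Spec B, PrimeSpectrum.basicOpen (πB.hom f)) →+* Γ(Spec A, PrimeSpectrum.basicOpen g) :=
    res.hom.comp ((Spec.map q).app (PrimeSpectrum.basicOpen (πB.hom f))).hom
  have hγ : ∀ z, γ (ev A' _ z) = ev A _ (p.hom z) := ev_map p _
  have hδ : ∀ z, δ (ev B _ z) = ev A _ (q.hom z) := fun z =>
    (congrArg res.hom (ev_map q _ z)).trans (ev_res A _ (q.hom z))
  exact glue_loc πB.hom πA.hom q.hom p.hom (fun x => (ConcreteCategory.congr_hom w x).symm) hex hinj f
    (ev R _) (ev B (PrimeSpectrum.basicOpen (πB.hom f))) (ev A' (PrimeSpectrum.basicOpen (πA.hom f)))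
    (ev A (PrimeSpectrum.basicOpen g))
    ((Spec.map πA).app (PrimeSpectrum.basicOpen f)).hom ((Spec.map πB).app (PrimeSpectrum.basicOpen f)).hom γ δ
    (ev_map πA _) (ev_map πB _) hγ hδ (ev_isUnit R f) (ev_surj R f) (ev_surj A' _) (ev_surj B _)
    (fun a h => ev_eq_zero A' _ a h) (fun a h => ev_eq_zero B _ a h) (fun a h => ev_eq_zero A _ a h)

end

end Groth.Agent.Pinch
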