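import Groth.Agent.Pinch.Core

/-! Pinched schemes: squares which are pushouts of sheafed spaces. -/

set_option autoImplicit false
set_option backward.isDefEq.respectTransparency false
set_option linter.style.haveILetI false

universe u

open CategoryTheory Limits AlgebraicGeometry TopologicalSpace Opposite

namespace Groth.Agent.Pinch

variable {Z X Y P : Scheme.{u}} (i : Z ⟶ X) (j : Z ⟶ Y) (a : X ⟶ P) (b : Y ⟶ P)

abbrev SF : Scheme.{u} ⥤ SheafedSpace CommRingCat.{u} :=
  Scheme.forgetToLocallyRingedSpace ⋙ LocallyRingedSpace.forgetToSheafedSpace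

/-- The square is a pushout of sheafed spaces. -/
def IsPinch : Prop := IsPushout (SF.map i) (SF.map j) (SF.map a) (SF.map b)

variable {i j a b}

theorem preimage_eq (w : i ≫ a = j ≫ b) (U : P.Opens) : i ⁻¹ᵁ (a ⁻¹ᵁ U) = j ⁻¹ᵁ (b ⁻¹ᵁ U) := by
  rw [← Scheme.Hom.comp_preimage, ← Scheme.Hom.comp_preimage, w]

/-- Compatible sections on the two pieces. -/
def Compat (w : i ≫ a = j ≫ b) (U : P.Opens) (s : Γ(X, a ⁻¹ᵁ U)) (t : Γ(Y, b ⁻¹ᵁ U)) : Prop :=
  (i.app (a ⁻¹ᵁ U)).hom s =
    (Z.presheaf.map (eqToHom (congrArg op (preimage_eq w U).symm))).hom ((j.app (b ⁻¹ᵁ U)).hom t)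

theorem compat_app (w : i ≫ a = j ≫ b) (U : P.Opens) (r : Γ(P, U)) :
    Compat w U ((a.app U).hom r) ((b.app U).hom r) := by
  have h := ConcreteCategory.congr_hom (Scheme.Hom.congr_app w U) r
  simpa [Compat] using h

/-- The two components determine a section, and compatible sections glue, over `U`. -/
def SecAt (w : i ≫ a = j ≫ b) (U : P.Opens) : Prop :=
  (∀ r r' : Γ(P, U), (a.app U).hom r = (a.app U).hom r' → (b.app U).hom r = (b.app U).hom r' → r = r') ∧
    ∀ s t, Compat w U s t → ∃ r : Γ(P, U), (a.app U).hom r = s ∧ (b.app U).hom r = t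

theorem top_of_isPinch (h : IsPinch i j a b) : IsPushout i.base j.base a.base b.base :=
  h.map (SheafedSpace.forget _)

theorem w_of_isPinch (h : IsPinch i j a b) : i ≫ a = j ≫ b :=
  SF.map_injective (by rw [Functor.map_comp, Functor.map_comp]; exact h.w)

theorem secPB_iff (w : i ≫ a = j ≫ b) :
    SecPB i.toPshHom j.toPshHom a.toPshHom b.toPshHom (congrArg (fun f : Z ⟶ P => f.base) w) ↔
      ∀ U : P.Opens, SecAt w U := by
  refine forall_congr' fun U => ⟨fun h => ?_, fun h => ?_⟩
  · have h' := h.map (forget CommRingCat.{u})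
    exact ⟨fun r r' h1 h2 => Types.ext_of_isPullback h' h1 h2,
      fun s t hst => Types.exists_of_isPullback h' s t hst⟩
  · refine IsPullback.of_map (forget CommRingCat.{u}) ?_ ((Types.isPullback_iff _ _ _ _).2 ⟨?_, ?_, ?_⟩)
    · exact CommRingCat.hom_ext (RingHom.ext fun r => compat_app w U r)
    · refine ConcreteCategory.hom_ext _ _ fun r => ?_
      dsimp
      exact compat_app w U r
    · exact fun r r' hr => h.1 r r' hr.1 hr.2
    · exact h.2

theorem isPinch_iff_psh :
    IsPinch i j a b ↔ IsPushout (C := PSh.{u}) i.toPshHom j.toPshHom a.toPshHom b.toPshHom :=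
  ⟨fun h => h.map SheafedSpace.forgetToPresheafedSpace,
    fun h => IsPushout.of_map SheafedSpace.forgetToPresheafedSpace
      (SheafedSpace.forgetToPresheafedSpace.map_injective h.w) h⟩

theorem secAt_of_isPinch (h : IsPinch i j a b) (U : P.Opens) : SecAt (w_of_isPinch h) U :=
  (secPB_iff _).1 (secPB_of_isPushout (isPinch_iff_psh.1 h)) U

theorem isPinch_of_secAt (w : i ≫ a = j ≫ b) (top : IsPushout i.base j.base a.base b.base)
    (sec : ∀ U, SecAt w U) : IsPinch i j a b :=
  isPinch_iff_psh.2 (isPushout_of_secPB (congrArg (fun f : Z ⟶ P => f.toPshHom) w) top ((secPB_iff w).2 sec))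

/-- It is enough to check sections on a basis. -/
theorem secAt_of_isBasis (w : i ≫ a = j ≫ b) {B : Set P.Opens} (hB : Opens.IsBasis B)
    (sec : ∀ V ∈ B, SecAt w V) (U : P.Opens) : SecAt w U := by
  have huniq : ∀ (U : P.Opens) (r r' : Γ(P, U)), (a.app U).hom r = (a.app U).hom r' →
      (b.app U).hom r = (b.app U).hom r' → r = r' := by
    intro U r r' h1 h2
    refine TopCat.Sheaf.eq_of_locally_eq' P.sheaf (fun V : {V : P.Opens // V ∈ B ∧ V ≤ U} => V.1) U
      (fun V => homOfLE V.2.2) ?_ r r' fun V => (sec V.1 V.2.1).1 _ _ ?_ ?_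
    · intro x hx
      obtain ⟨V, hV, hxV, hVU⟩ := Opens.isBasis_iff_nbhd.1 hB hx
      exact Opens.mem_iSup.2 ⟨⟨V, hV, hVU⟩, hxV⟩
    · have hn := fun z : Γ(P, U) => ConcreteCategory.congr_hom (a.naturality (homOfLE V.2.2).op) z
      simp only [CommRingCat.comp_apply] at hn
      erw [hn, hn, h1]
    · have hn := fun z : Γ(P, U) => ConcreteCategory.congr_hom (b.naturality (homOfLE V.2.2).op) z
      simp only [CommRingCat.comp_apply] at hn
      erw [hn, hn, h2]
  refine ⟨huniq U, fun s t hst => ?_⟩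
  let ι := {V : P.Opens // V ∈ B ∧ V ≤ U}
  have hcov : U ≤ iSup fun V : ι => V.1 := by
    intro x hx
    obtain ⟨V, hV, hxV, hVU⟩ := Opens.isBasis_iff_nbhd.1 hB hx
    exact Opens.mem_iSup.2 ⟨⟨V, hV, hVU⟩, hxV⟩
  have hres : ∀ V : ι, ∃ r : Γ(P, V.1),
      (a.app V.1).hom r = (X.presheaf.map (homOfLE (a.preimage_mono V.2.2)).op).hom s ∧
      (b.app V.1).hom r = (Y.presheaf.map (homOfLE (b.preimage_mono V.2.2)).op).hom t := by
    intro V
    refine (sec V.1 V.2.1).2 _ _ ?_
    unfold Compat at hst ⊢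
    have hi := ConcreteCategory.congr_hom (i.naturality (homOfLE (a.preimage_mono V.2.2)).op) s
    have hj := ConcreteCategory.congr_hom (j.naturality (homOfLE (b.preimage_mono V.2.2)).op) t
    simp only [CommRingCat.comp_apply] at hi hj
    erw [hi, hj, hst]
    simp only [← CommRingCat.comp_apply, ← Functor.map_comp]
    rw [Category.assoc, Category.assoc, ← Functor.map_comp, ← Functor.map_comp]
    rfl
  choose r hra hrb using hres
  have hc : TopCat.Presheaf.IsCompatible P.presheaf (fun V : ι => V.1) r := by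
    intro V W
    apply huniq
    · have hn := fun (T : ι) (h : V.1 ⊓ W.1 ≤ T.1) =>
        ConcreteCategory.congr_hom (a.naturality (homOfLE h).op) (r T)
      simp only [CommRingCat.comp_apply] at hn
      refine ((hn V inf_le_left).trans ?_).trans (hn W inf_le_right).symm
      simp only [hra, ← CommRingCat.comp_apply, ← Functor.map_comp]
      rfl
    · have hn := fun (T : ι) (h : V.1 ⊓ W.1 ≤ T.1) =>
        ConcreteCategory.congr_hom (b.naturality (homOfLE h).op) (r T)
      simp only [CommRingCat.comp_apply] at hn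
      refine ((hn V inf_le_left).trans ?_).trans (hn W inf_le_right).symm
      simp only [hrb, ← CommRingCat.comp_apply, ← Functor.map_comp]
      rfl
  obtain ⟨g, hg, -⟩ := TopCat.Sheaf.existsUnique_gluing' P.sheaf (fun V : ι => V.1) U
    (fun V => homOfLE V.2.2) hcov r hc
  refine ⟨g, ?_, ?_⟩
  · refine TopCat.Sheaf.eq_of_locally_eq' X.sheaf (fun V : ι => a ⁻¹ᵁ V.1) (a ⁻¹ᵁ U)
      (fun V => homOfLE (a.preimage_mono V.2.2)) ?_ _ _ fun V => ?_
    · intro x hx
      obtain ⟨V, hV⟩ := Opens.mem_iSup.1 (hcov hx)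
      exact Opens.mem_iSup.2 ⟨V, hV⟩
    · have hn := ConcreteCategory.congr_hom (a.naturality (homOfLE V.2.2).op) g
      simp only [CommRingCat.comp_apply] at hn
      exact (hn.symm.trans (congrArg (a.app V.1).hom (hg V))).trans (hra V)
  · refine TopCat.Sheaf.eq_of_locally_eq' Y.sheaf (fun V : ι => b ⁻¹ᵁ V.1) (b ⁻¹ᵁ U)
      (fun V => homOfLE (b.preimage_mono V.2.2)) ?_ _ _ fun V => ?_
    · intro x hx
      obtain ⟨V, hV⟩ := Opens.mem_iSup.1 (hcov hx)
      exact Opens.mem_iSup.2 ⟨V, hV⟩
    · have hn := ConcreteCategory.congr_hom (b.naturality (homOfLE V.2.2).op) g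
      simp only [CommRingCat.comp_apply] at hn
      exact (hn.symm.trans (congrArg (b.app V.1).hom (hg V))).trans (hrb V)

theorem surj_of_top (top : IsPushout i.base j.base a.base b.base) (p : P) :
    (∃ x, a x = p) ∨ ∃ y, b y = p := by
  rcases Types.eq_or_eq_of_isPushout (top.map (forget TopCat.{u})) p with ⟨x, hx⟩ | ⟨y, hy⟩
  · exact Or.inl ⟨x, hx⟩
  · exact Or.inr ⟨y, hy⟩

/-- A pinched scheme is the pushout in the category of locally ringed spaces. -/
theorem isPushout_lrs (h : IsPinch i j a b) :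
    IsPushout (Scheme.forgetToLocallyRingedSpace.map i) (Scheme.forgetToLocallyRingedSpace.map j)
      (Scheme.forgetToLocallyRingedSpace.map a) (Scheme.forgetToLocallyRingedSpace.map b) := by
  have w := w_of_isPinch h
  have key : ∀ {T : LocallyRingedSpace.{u}} (f : X.toLocallyRingedSpace ⟶ T) (g : Y.toLocallyRingedSpace ⟶ T)
      (m : P.toLocallyRingedSpace.toSheafedSpace ⟶ T.toSheafedSpace),
      a.toPshHom ≫ m.hom = f.toHom → b.toPshHom ≫ m.hom = g.toHom →
        ∀ p, IsLocalHom (m.hom.stalkMap p).hom := by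
    intro T f g m hf hg p
    rcases surj_of_top (top_of_isPinch h) p with ⟨x, rfl⟩ | ⟨y, rfl⟩
    · have h1 : IsLocalHom (PresheafedSpace.Hom.stalkMap (a.toPshHom ≫ m.hom) x).hom := by
        rw [PresheafedSpace.stalkMap.congr_hom _ _ hf, CommRingCat.hom_comp]
        infer_instance
      rw [PresheafedSpace.stalkMap.comp, CommRingCat.hom_comp] at h1
      exact isLocalHom_of_comp _ (a.toPshHom.stalkMap x).hom
    · have h1 : IsLocalHom (PresheafedSpace.Hom.stalkMap (b.toPshHom ≫ m.hom) y).hom := by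
        rw [PresheafedSpace.stalkMap.congr_hom _ _ hg, CommRingCat.hom_comp]
        infer_instance
      rw [PresheafedSpace.stalkMap.comp, CommRingCat.hom_comp] at h1
      exact isLocalHom_of_comp _ (b.toPshHom.stalkMap y).hom
  have hl : IsPushout (Scheme.forgetToLocallyRingedSpace.map i) (Scheme.forgetToLocallyRingedSpace.map j)
      (Scheme.forgetToLocallyRingedSpace.map a) (Scheme.forgetToLocallyRingedSpace.map b) := by
    let G := LocallyRingedSpace.forgetToSheafedSpace.{u}
    refine IsPushout.of_isColimit' ⟨by rw [← Functor.map_comp, w, Functor.map_comp]⟩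
      (PushoutCocone.IsColimit.mk _ (fun s => LocallyRingedSpace.homMk
        (h.desc (G.map s.inl) (G.map s.inr) (by
          erw [← G.map_comp, ← G.map_comp, s.condition]))
        (key s.inl s.inr _ (congrArg InducedCategory.Hom.hom (h.inl_desc _ _ _))
          (congrArg InducedCategory.Hom.hom (h.inr_desc _ _ _)))) ?_ ?_ ?_)
    · exact fun s => G.map_injective (h.inl_desc _ _ _)
    · exact fun s => G.map_injective (h.inr_desc _ _ _)
    · intro s m h1 h2
      refine G.map_injective (h.hom_ext ?_ ?_)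
      · erw [h.inl_desc]; exact congrArg G.map h1
      · erw [h.inr_desc]; exact congrArg G.map h2
  exact hl

/-- A pinched scheme is the pushout in the category of schemes. -/
theorem isPushout_of_isPinch (h : IsPinch i j a b) : IsPushout i j a b :=
  IsPushout.of_map Scheme.forgetToLocallyRingedSpace (w_of_isPinch h) (isPushout_lrs h)

end Groth.Agent.Pinch
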