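import Mathlib

/-! Pushouts of (pre)sheafed spaces: pushout of spaces and componentwise fibre products of sections. -/

set_option autoImplicit false
set_option backward.isDefEq.respectTransparency false
set_option linter.style.haveILetI false

universe u

open CategoryTheory Limits AlgebraicGeometry TopologicalSpace Opposite

namespace Groth.Agent.Pinch

abbrev PSh := PresheafedSpace.{u, u + 1, u} CommRingCat.{u}

variable {Z X Y P : PSh.{u}} {i : Z ⟶ X} {j : Z ⟶ Y} {a : X ⟶ P} {b : Y ⟶ P}

theorem cond_base (s : PushoutCocone i j) : i.base ≫ s.inl.base = j.base ≫ s.inr.base :=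
  congrArg PresheafedSpace.Hom.base s.condition

theorem map_trans {T : PSh.{u}} {U V V' W : (Opens T)ᵒᵖ} (f : U ⟶ V) (g : V ⟶ W) (f' : U ⟶ V') (g' : V' ⟶ W) :
    T.presheaf.map f ≫ T.presheaf.map g = T.presheaf.map f' ≫ T.presheaf.map g' := by
  rw [← Functor.map_comp, ← Functor.map_comp]
  exact congrArg _ (Subsingleton.elim _ _)

theorem map_eq {T : PSh.{u}} {U V W : (Opens T)ᵒᵖ} (f : U ⟶ V) (g : V ⟶ W) (k : U ⟶ W) :
    T.presheaf.map f ≫ T.presheaf.map g = T.presheaf.map k := by
  rw [← Functor.map_comp]
  exact congrArg _ (Subsingleton.elim _ _)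

theorem map_map_self {T : PSh.{u}} {U V : (Opens T)ᵒᵖ} (f : U ⟶ V) (g : V ⟶ U) :
    T.presheaf.map f ≫ T.presheaf.map g = 𝟙 _ := by
  rw [← Functor.map_comp, Subsingleton.elim (f ≫ g) (𝟙 U), CategoryTheory.Functor.map_id]

theorem map_preimage (hw : i.base ≫ a.base = j.base ≫ b.base) (U : Opens P) :
    (Opens.map i.base).obj ((Opens.map a.base).obj U) = (Opens.map j.base).obj ((Opens.map b.base).obj U) := by
  rw [← Opens.map_comp_obj, ← Opens.map_comp_obj, hw]

/-- The sections over every open subset form fibre products. -/
def SecPB (i : Z ⟶ X) (j : Z ⟶ Y) (a : X ⟶ P) (b : Y ⟶ P) (hw : i.base ≫ a.base = j.base ≫ b.base) : Prop :=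
  ∀ U : Opens P, IsPullback (a.c.app (op U)) (b.c.app (op U)) (i.c.app (op ((Opens.map a.base).obj U)))
    (j.c.app (op ((Opens.map b.base).obj U)) ≫ Z.presheaf.map (eqToHom (congrArg op (map_preimage hw U).symm)))

/-- A pushout of spaces whose sections are fibre products is a pushout. -/
theorem isPushout_of_secPB (w : i ≫ a = j ≫ b) (top : IsPushout i.base j.base a.base b.base)
    (sec : SecPB i j a b top.w) : IsPushout i j a b := by
  have key : ∀ (s : PushoutCocone i j) (U : Opens s.pt),
      ∃ r : s.pt.presheaf.obj (op U) ⟶ P.presheaf.obj (op ((Opens.map (top.desc s.inl.base s.inr.base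
          (cond_base s))).obj U)),
        r ≫ a.c.app _ = s.inl.c.app (op U) ≫ X.presheaf.map (eqToHom (congrArg op (by
          rw [← Opens.map_comp_obj, top.inl_desc]))) ∧
        r ≫ b.c.app _ = s.inr.c.app (op U) ≫ Y.presheaf.map (eqToHom (congrArg op (by
          rw [← Opens.map_comp_obj, top.inr_desc]))) := fun s U => by
    refine ⟨(sec _).lift _ _ ?_, (sec _).lift_fst _ _ _, (sec _).lift_snd _ _ _⟩
    have h := PresheafedSpace.congr_app s.condition (op U)
    simp only [PresheafedSpace.comp_c_app] at h
    simp only [Category.assoc, i.c.naturality, j.c.naturality_assoc]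
    erw [reassoc_of% h]
    refine congrArg _ (congrArg _ ?_)
    exact map_trans _ _ _ _
  choose r hra hrb using key
  refine IsPushout.of_isColimit' ⟨w⟩ (PushoutCocone.IsColimit.mk w
    (fun s => { base := top.desc s.inl.base s.inr.base (cond_base s)
                c := { app := fun U => r s U.unop, naturality := ?_ } }) ?_ ?_ ?_)
  · intro U V k
    refine (sec _).hom_ext ?_ ?_
    · simp only [Category.assoc, hra]
      show _ = r s U.unop ≫ P.presheaf.map ((Opens.map _).map k.unop).op ≫ a.c.app _
      rw [a.c.naturality]
      erw [reassoc_of% (hra s U.unop)]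
      erw [s.inl.c.naturality_assoc]
      exact congrArg _ (map_trans _ _ _ _)
    · simp only [Category.assoc, hrb]
      show _ = r s U.unop ≫ P.presheaf.map ((Opens.map _).map k.unop).op ≫ b.c.app _
      rw [b.c.naturality]
      erw [reassoc_of% (hrb s U.unop)]
      erw [s.inr.c.naturality_assoc]
      exact congrArg _ (map_trans _ _ _ _)
  · intro s
    refine PresheafedSpace.ext _ _ (top.inl_desc _ _ _) ?_
    refine NatTrans.ext (funext fun U => ?_)
    show (r s U.unop ≫ a.c.app _) ≫ X.presheaf.map _ = s.inl.c.app U
    erw [hra]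
    rw [Category.assoc]
    erw [map_map_self, Category.comp_id]
  · intro s
    refine PresheafedSpace.ext _ _ (top.inr_desc _ _ _) ?_
    refine NatTrans.ext (funext fun U => ?_)
    show (r s U.unop ≫ b.c.app _) ≫ Y.presheaf.map _ = s.inr.c.app U
    erw [hrb]
    rw [Category.assoc]
    erw [map_map_self, Category.comp_id]
  · intro s m h1 h2
    have hb : m.base = top.desc s.inl.base s.inr.base (cond_base s) :=
      top.hom_ext (by rw [top.inl_desc, ← h1]; rfl) (by rw [top.inr_desc, ← h2]; rfl)
    refine PresheafedSpace.ext _ _ hb ?_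
    refine NatTrans.ext (funext fun U => ?_)
    simp only [NatTrans.comp_app, Functor.whiskerRight_app]
    refine (sec _).hom_ext ?_ ?_
    · rw [hra]
      have h := PresheafedSpace.congr_app h1 U
      simp only [PresheafedSpace.comp_c_app] at h
      show (m.c.app U ≫ P.presheaf.map _) ≫ a.c.app _ = _
      rw [Category.assoc]
      erw [a.c.naturality]
      erw [reassoc_of% h]
      exact congrArg _ (map_eq _ _ _)
    · rw [hrb]
      have h := PresheafedSpace.congr_app h2 U
      simp only [PresheafedSpace.comp_c_app] at h
      show (m.c.app U ≫ P.presheaf.map _) ≫ b.c.app _ = _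
      rw [Category.assoc]
      erw [b.c.naturality]
      erw [reassoc_of% h]
      exact congrArg _ (map_eq _ _ _)

section
variable (i j a b) (hw : i.base ≫ a.base = j.base ≫ b.base)

abbrev rA (U : Opens P) : X.presheaf.obj (op ((Opens.map a.base).obj U)) ⟶
    Z.presheaf.obj (op ((Opens.map i.base).obj ((Opens.map a.base).obj U))) :=
  i.c.app (op ((Opens.map a.base).obj U))

abbrev rB (U : Opens P) : Y.presheaf.obj (op ((Opens.map b.base).obj U)) ⟶
    Z.presheaf.obj (op ((Opens.map i.base).obj ((Opens.map a.base).obj U))) :=
  j.c.app (op ((Opens.map b.base).obj U)) ≫ Z.presheaf.map (eqToHom (congrArg op (map_preimage hw U).symm))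

/-- The presheaf of fibre products of sections. -/
noncomputable def fibPresheaf : P.carrier.Presheaf CommRingCat.{u} where
  obj U := pullback (rA i a U.unop) (rB i j a b hw U.unop)
  map {U V} k := pullback.map _ _ _ _ (X.presheaf.map ((Opens.map a.base).map k.unop).op)
    (Y.presheaf.map ((Opens.map b.base).map k.unop).op)
    (Z.presheaf.map ((Opens.map i.base).map ((Opens.map a.base).map k.unop)).op)
    (i.c.naturality _).symm (by
      simp only [rB, Category.assoc, j.c.naturality_assoc]
      simp only [TopCat.Presheaf.pushforward_obj_map]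
      congr 1
      erw [← Functor.map_comp, ← Functor.map_comp]
      rfl)
  map_id U := by apply pullback.hom_ext <;> simp
  map_comp k l := by apply pullback.hom_ext <;> simp

/-- The presheafed space of fibre products of sections. -/
noncomputable abbrev fibSpace : PSh.{u} := ⟨P.carrier, fibPresheaf i j a b hw⟩

noncomputable def fibInl : X ⟶ fibSpace i j a b hw :=
  { base := a.base
    c := { app := fun U => pullback.fst _ _, naturality := fun U V k => pullback.lift_fst _ _ _ } }

noncomputable def fibInr : Y ⟶ fibSpace i j a b hw :=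
  { base := b.base
    c := { app := fun U => pullback.snd _ _, naturality := fun U V k => pullback.lift_snd _ _ _ } }

theorem fib_isPushout (top : IsPushout i.base j.base a.base b.base) :
    IsPushout i j (fibInl i j a b top.w) (fibInr i j a b top.w) := by
  have sec : SecPB i j (fibInl i j a b top.w) (fibInr i j a b top.w) top.w := fun U =>
    IsPullback.of_hasPullback _ _
  refine isPushout_of_secPB (PresheafedSpace.ext _ _ top.w ?_) top sec
  refine NatTrans.ext (funext fun U => ?_)
  show (pullback.fst (rA i a U.unop) (rB i j a b top.w U.unop) ≫ i.c.app _) ≫ Z.presheaf.map _ =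
    pullback.snd (rA i a U.unop) (rB i j a b top.w U.unop) ≫ j.c.app _
  have hc := pullback.condition (f := rA i a U.unop) (g := rB i j a b top.w U.unop)
  simp only [rA] at hc
  rw [Category.assoc]
  erw [reassoc_of% hc]
  simp only [rB, Category.assoc]
  erw [map_map_self, Category.comp_id]

end

/-- The sections of a pushout are fibre products. -/
theorem secPB_of_isPushout (h : IsPushout i j a b) :
    SecPB i j a b (congrArg PresheafedSpace.Hom.base h.w) := by
  haveI : PreservesColimitsOfShape WalkingSpan (PresheafedSpace.forget.{u, u + 1, u} CommRingCat.{u}) := inferInstance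
  have top : IsPushout i.base j.base a.base b.base := h.map (PresheafedSpace.forget _)
  let e := IsPushout.isoIsPushout X Y h (fib_isPushout i j a b top)
  have hb : e.hom.base = 𝟙 P.carrier := top.hom_ext
    ((congrArg PresheafedSpace.Hom.base (IsPushout.inl_isoIsPushout_hom X Y h (fib_isPushout i j a b top))).trans (Category.comp_id _).symm)
    ((congrArg PresheafedSpace.Hom.base (IsPushout.inr_isoIsPushout_hom X Y h (fib_isPushout i j a b top))).trans (Category.comp_id _).symm)
  intro U
  haveI : IsIso e.hom.c := PresheafedSpace.c_isIso_of_iso _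
  have hU : (Opens.map e.hom.base).obj U = U := by rw [hb]; exact Opens.map_id_obj U
  let φ : (fibPresheaf i j a b top.w).obj (op U) ⟶ P.presheaf.obj (op U) :=
    e.hom.c.app (op U) ≫ P.presheaf.map (eqToHom (congrArg op hU))
  have h1 : φ ≫ a.c.app (op U) = pullback.fst _ _ := by
    have := PresheafedSpace.congr_app (IsPushout.inl_isoIsPushout_hom X Y h (fib_isPushout i j a b top)) (op U)
    simp only [PresheafedSpace.comp_c_app] at this
    simp only [φ, Category.assoc, a.c.naturality]
    erw [reassoc_of% this]
    simp only [fibInl]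
    erw [map_map_self, Category.comp_id]
  have h2 : φ ≫ b.c.app (op U) = pullback.snd _ _ := by
    have := PresheafedSpace.congr_app (IsPushout.inr_isoIsPushout_hom X Y h (fib_isPushout i j a b top)) (op U)
    simp only [PresheafedSpace.comp_c_app] at this
    simp only [φ, Category.assoc, b.c.naturality]
    erw [reassoc_of% this]
    simp only [fibInr]
    erw [map_map_self, Category.comp_id]
  exact IsPullback.of_iso (IsPullback.of_hasPullback (rA i a U) (rB i j a b top.w U)) (asIso φ) (Iso.refl _)
    (Iso.refl _) (Iso.refl _) (by simp [h1]) (by simp [h2]) (by simp) (by simp)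

end Groth.Agent.Pinch
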