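import Groth.Agent.Pinch.Open
import Groth.Agent.Pinch.Spec

/-! Existence of pushouts of schemes along a closed immersion, glued from affine charts. -/

set_option autoImplicit false
set_option backward.isDefEq.respectTransparency false
set_option linter.style.haveILetI false

universe u

open CategoryTheory Limits AlgebraicGeometry TopologicalSpace Opposite

namespace Groth.Agent.Pinch

variable {Z X Y P : Scheme.{u}} {i : Z ⟶ X} {j : Z ⟶ Y} {a : X ⟶ P} {b : Y ⟶ P}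

theorem IsPinch.of_iso {Z' X' Y' P' : Scheme.{u}} {i' : Z' ⟶ X'} {j' : Z' ⟶ Y'} {a' : X' ⟶ P'} {b' : Y' ⟶ P'}
    (h : IsPinch i j a b) (eZ : Z ≅ Z') (eX : X ≅ X') (eY : Y ≅ Y') (eP : P ≅ P')
    (hi : i ≫ eX.hom = eZ.hom ≫ i') (hj : j ≫ eY.hom = eZ.hom ≫ j')
    (ha : a ≫ eP.hom = eX.hom ≫ a') (hb : b ≫ eP.hom = eY.hom ≫ b') : IsPinch i' j' a' b' := by
  refine IsPushout.of_iso h (SF.mapIso eZ) (SF.mapIso eX) (SF.mapIso eY) (SF.mapIso eP) ?_ ?_ ?_ ?_ <;>
    simp only [Functor.mapIso_hom, ← Functor.map_comp, hi, hj, ha, hb]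

theorem affine_surjective [IsAffine X] (i : Z ⟶ X) [IsClosedImmersion i] : Function.Surjective i.appTop.hom :=
  i.app_surjective ⊤ (isAffineOpen_top _)

/-- Affine schemes have pinchings. -/
theorem exists_pinch_affine [IsAffine Z] [IsAffine X] [IsAffine Y] (i : Z ⟶ X) [IsClosedImmersion i] (j : Z ⟶ Y) :
    ∃ (R : CommRingCat.{u}) (a : X ⟶ Spec R) (b : Y ⟶ Spec R), IsPinch i j a b := by
  have hpb := IsPullback.of_hasPullback j.appTop i.appTop
  have hT := hpb.map (forget CommRingCat.{u})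
  let sR := pullback.fst j.appTop i.appTop
  let tR := pullback.snd j.appTop i.appTop
  refine ⟨pullback j.appTop i.appTop, X.isoSpec.hom ≫ Spec.map tR, Y.isoSpec.hom ≫ Spec.map sR, ?_⟩
  refine (spec_isPinch sR tR j.appTop i.appTop pullback.condition.symm (affine_surjective i)
    (fun b a e => Types.exists_of_isPullback hT b a e) fun r r' h1 h2 => Types.ext_of_isPullback hT h1 h2).of_iso
    Z.isoSpec.symm X.isoSpec.symm Y.isoSpec.symm (Iso.refl _) ?_ ?_ ?_ ?_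
  · simp [Scheme.isoSpec_inv_naturality]
  · simp [Scheme.isoSpec_inv_naturality]
  · simp
  · simp

/-- An affine saturated piece: `U` and `V` are affine with the same affine preimage in `Z`. -/
structure Chart (i : Z ⟶ X) (j : Z ⟶ Y) (U : X.Opens) (V : Y.Opens) : Prop where
  affX : IsAffineOpen U
  affY : IsAffineOpen V
  affZ : IsAffineOpen (i ⁻¹ᵁ U)
  sat : i ⁻¹ᵁ U = j ⁻¹ᵁ V

/-- The charts cover the target of `j`. -/
def HasCharts (i : Z ⟶ X) (j : Z ⟶ Y) : Prop := ∀ y : Y, ∃ U V, Chart i j U V ∧ y ∈ V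

theorem exists_chart_X [IsClosedImmersion i] (hc : HasCharts i j) (x : X) :
    ∃ U V, Chart i j U V ∧ x ∈ U := by
  by_cases hx : x ∈ Set.range i
  · obtain ⟨z, rfl⟩ := hx
    obtain ⟨U, V, hUV, hzV⟩ := hc (j z)
    exact ⟨U, V, hUV, show z ∈ i ⁻¹ᵁ U from hUV.sat ▸ hzV⟩
  · obtain ⟨U, hU, hxU, hUO⟩ := exists_isAffineOpen_mem_and_subset
      (U := (⟨(Set.range i)ᶜ, i.isClosedEmbedding.isClosed_range.isOpen_compl⟩ : X.Opens)) hx
    have he : i ⁻¹ᵁ U = ⊥ := by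
      ext z
      simpa using fun hz : i z ∈ U => hUO hz ⟨z, rfl⟩
    exact ⟨U, ⊥, ⟨hU, isAffineOpen_bot Y, he ▸ isAffineOpen_bot Z, by rw [he]; rfl⟩, hxU⟩

/-- The image of a chart in a pushout of locally ringed spaces. -/
theorem exists_chart_map [IsClosedImmersion i] {P₀ : LocallyRingedSpace.{u}} {a₀ : X.toLocallyRingedSpace ⟶ P₀}
    {b₀ : Y.toLocallyRingedSpace ⟶ P₀}
    (h₀ : IsPushout (LocallyRingedSpace.forgetToSheafedSpace.map i.toLRSHom)
      (LocallyRingedSpace.forgetToSheafedSpace.map j.toLRSHom)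
      (LocallyRingedSpace.forgetToSheafedSpace.map a₀) (LocallyRingedSpace.forgetToSheafedSpace.map b₀))
    (hw : i.toLRSHom ≫ a₀ = j.toLRSHom ≫ b₀) {U : X.Opens} {V : Y.Opens} (hUV : Chart i j U V) :
    ∃ (R : CommRingCat.{u}) (ψ : Spec.toLocallyRingedSpace.obj (op R) ⟶ P₀),
      LocallyRingedSpace.IsOpenImmersion ψ ∧
        a₀.base ⁻¹' Set.range ψ.base = (U : Set X) ∧ b₀.base ⁻¹' Set.range ψ.base = (V : Set Y) := by
  haveI : IsAffine (U : Scheme.{u}) := hUV.affX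
  haveI : IsAffine (V : Scheme.{u}) := hUV.affY
  haveI : IsAffine ((i ⁻¹ᵁ U : Z.Opens) : Scheme.{u}) := hUV.affZ
  let i' : ((i ⁻¹ᵁ U : Z.Opens) : Scheme.{u}) ⟶ U := i.resLE U (i ⁻¹ᵁ U) le_rfl
  let j' : ((i ⁻¹ᵁ U : Z.Opens) : Scheme.{u}) ⟶ V := j.resLE V (i ⁻¹ᵁ U) hUV.sat.le
  haveI : IsClosedImmersion i' := by
    have : i' = i ∣_ U := by simp [i', Scheme.Hom.resLE]
    rw [this]; infer_instance
  obtain ⟨R, a', b', h'⟩ := exists_pinch_affine i' j'
  have hi : i' ≫ U.ι = (i ⁻¹ᵁ U).ι ≫ i := Scheme.Hom.resLE_comp_ι _ _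
  have hj : j' ≫ V.ι = (i ⁻¹ᵁ U).ι ≫ j := Scheme.Hom.resLE_comp_ι _ _
  have hl := isPushout_lrs h'
  let F := Scheme.forgetToLocallyRingedSpace.{u}
  let ψ : F.obj (Spec R) ⟶ P₀ := hl.desc (F.map U.ι ≫ a₀) (F.map V.ι ≫ b₀) (by
    rw [← Functor.map_comp_assoc, ← Functor.map_comp_assoc, hi, hj, Functor.map_comp, Functor.map_comp,
      Category.assoc, Category.assoc]
    exact congrArg (F.map _ ≫ ·) hw)
  have h₀' := h₀.map SheafedSpace.forgetToPresheafedSpace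
  have top : IsPushout i.base j.base a₀.base b₀.base :=
    h₀.map (SheafedSpace.forget CommRingCat.{u})
  have hrX : i ⁻¹' Set.range U.ι = Set.range (i ⁻¹ᵁ U).ι := by
    rw [Scheme.Opens.range_ι, Scheme.Opens.range_ι]; rfl
  have hrY : j ⁻¹' Set.range V.ι = Set.range (i ⁻¹ᵁ U).ι := by
    rw [Scheme.Opens.range_ι, Scheme.Opens.range_ι, hUV.sat]; rfl
  obtain ⟨hψ, hrange⟩ := isOpenImmersion_of_saturated h₀' (isPinch_iff_psh.1 h')
    (i ⁻¹ᵁ U).ι.toPshHom U.ι.toPshHom V.ι.toPshHom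
    (congrArg (fun f : _ ⟶ X => f.toPshHom) hi.symm) (congrArg (fun f : _ ⟶ Y => f.toPshHom) hj.symm)
    hrX hrY ψ.toHom (congrArg (fun f : _ ⟶ P₀ => f.toHom) (hl.inl_desc _ _ _)) (congrArg (fun f : _ ⟶ P₀ => f.toHom) (hl.inr_desc _ _ _))
  refine ⟨R, ψ, hψ, ?_⟩
  obtain ⟨S, hS1, hS2⟩ := exists_set (i := i.toPshHom) (j := j.toPshHom) (a := a₀.toHom) (b := b₀.toHom) top
    (U : Set X) (V : Set Y) (congrArg (fun W : Z.Opens => (W : Set Z)) hUV.sat)
  have hr : Set.range ψ.base = S := by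
    refine hrange.trans ?_
    show a₀.base '' Set.range U.ι ∪ b₀.base '' Set.range V.ι = S
    rw [U.range_ι, V.range_ι]
    show a₀.base '' (U : Set X) ∪ b₀.base '' (V : Set Y) = S
    rw [← hS1, ← hS2]
    refine Set.Subset.antisymm (Set.union_subset (Set.image_preimage_subset _ _) (Set.image_preimage_subset _ _))
      fun p hp => ?_
    rcases surj_top (i := i.toPshHom) (j := j.toPshHom) (a := a₀.toHom) (b := b₀.toHom) top p with ⟨x, rfl⟩ | ⟨y, rfl⟩
    · exact Or.inl ⟨x, hp, rfl⟩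
    · exact Or.inr ⟨y, hp, rfl⟩
  exact ⟨(congrArg (Set.preimage a₀.base) hr).trans hS1, (congrArg (Set.preimage b₀.base) hr).trans hS2⟩

/-- A closed immersion and a morphism with charts have a pinching. -/
theorem exists_pinch [IsClosedImmersion i] (hc : HasCharts i j) :
    ∃ (P : Scheme.{u}) (a : X ⟶ P) (b : Y ⟶ P), IsPinch i j a b := by
  let F := Scheme.forgetToLocallyRingedSpace.{u}
  let a₀ := pushout.inl (F.map i) (F.map j)
  let b₀ := pushout.inr (F.map i) (F.map j)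
  have h₀ := (IsPushout.of_hasPushout (F.map i) (F.map j)).map LocallyRingedSpace.forgetToSheafedSpace
  have hcov : ∀ p : (pushout (F.map i) (F.map j) : LocallyRingedSpace.{u}), ∃ (R : CommRingCat.{u}) (f : Spec.toLocallyRingedSpace.obj (op R) ⟶ pushout (F.map i) (F.map j)),
      (p ∈ Set.range f.base :) ∧ LocallyRingedSpace.IsOpenImmersion f := by
    intro p
    have top := h₀.map (SheafedSpace.forget CommRingCat.{u})
    rcases surj_top (i := i.toPshHom) (j := j.toPshHom) (a := a₀.toHom) (b := b₀.toHom) top p with ⟨x, rfl⟩ | ⟨y, rfl⟩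
    · obtain ⟨U, V, hUV, hx⟩ := exists_chart_X hc x
      obtain ⟨R, ψ, hψ, hX, -⟩ := exists_chart_map (i := i) (j := j) h₀ pushout.condition hUV
      exact ⟨R, ψ, hX.ge hx, hψ⟩
    · obtain ⟨U, V, hUV, hy⟩ := hc y
      obtain ⟨R, ψ, hψ, -, hY⟩ := exists_chart_map (i := i) (j := j) h₀ pushout.condition hUV
      exact ⟨R, ψ, hY.ge hy, hψ⟩
  let P : Scheme.{u} := LocallyRingedSpace.IsOpenImmersion.scheme (pushout (F.map i) (F.map j)) hcov
  exact ⟨P, F.preimage (X := X) (Y := P) a₀, F.preimage (X := Y) (Y := P) b₀, by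
    unfold IsPinch
    simp only [SF, Functor.comp_map]
    erw [Functor.map_preimage, Functor.map_preimage]
    exact h₀⟩

/-- With charts, every pushout of schemes is a pinching. -/
theorem isPinch_of_isPushout [IsClosedImmersion i] (hc : HasCharts i j) (h : IsPushout i j a b) : IsPinch i j a b := by
  obtain ⟨P', a', b', h'⟩ := exists_pinch hc
  exact h'.of_iso (Iso.refl _) (Iso.refl _) (Iso.refl _) (IsPushout.isoIsPushout X Y (isPushout_of_isPinch h') h)
    (by simp) (by simp) (by simp) (by simp)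

/-- A chart has an affine image with the same preimages. -/
theorem exists_chart_opens [IsClosedImmersion i] (h : IsPinch i j a b) {U : X.Opens} {V : Y.Opens}
    (hUV : Chart i j U V) : ∃ W : P.Opens, IsAffineOpen W ∧ a ⁻¹ᵁ W = U ∧ b ⁻¹ᵁ W = V := by
  have hw := congrArg (fun f => Scheme.Hom.toLRSHom f) (w_of_isPinch h)
  obtain ⟨R, ψ, hψ, hX, hY⟩ := exists_chart_map (i := i) (j := j) (P₀ := P.toLocallyRingedSpace) (a₀ := a.toLRSHom) (b₀ := b.toLRSHom)
    h hw hUV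
  let ψ₁ : Scheme.forgetToLocallyRingedSpace.obj (Spec R) ⟶ Scheme.forgetToLocallyRingedSpace.obj P := ψ
  let ψ' : Spec R ⟶ P := Scheme.forgetToLocallyRingedSpace.preimage ψ₁
  have e : ψ'.toLRSHom = ψ := Scheme.forgetToLocallyRingedSpace.map_preimage ψ₁
  haveI : IsOpenImmersion ψ' := by
    show LocallyRingedSpace.IsOpenImmersion ψ'.toLRSHom
    rw [e]; exact hψ
  refine ⟨ψ'.opensRange, isAffineOpen_opensRange ψ', Opens.ext ?_, Opens.ext ?_⟩
  · show a.toLRSHom.base ⁻¹' Set.range ψ'.toLRSHom.base = _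
    rw [e]; exact hX
  · show b.toLRSHom.base ⁻¹' Set.range ψ'.toLRSHom.base = _
    rw [e]; exact hY

theorem exists_chart_at [IsClosedImmersion i] (hc : HasCharts i j) (h : IsPinch i j a b) (p : P) :
    ∃ (U : X.Opens) (V : Y.Opens) (W : P.Opens), Chart i j U V ∧ IsAffineOpen W ∧ p ∈ W ∧
      a ⁻¹ᵁ W = U ∧ b ⁻¹ᵁ W = V := by
  rcases Pinch.surj_of_top (top_of_isPinch h) p with ⟨x, rfl⟩ | ⟨y, rfl⟩
  · obtain ⟨U, V, hUV, hx⟩ := exists_chart_X hc x
    obtain ⟨W, hW, hU, hV⟩ := exists_chart_opens h hUV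
    exact ⟨U, V, W, hUV, hW, show x ∈ a ⁻¹ᵁ W from hU ▸ hx, hU, hV⟩
  · obtain ⟨U, V, hUV, hy⟩ := hc y
    obtain ⟨W, hW, hU, hV⟩ := exists_chart_opens h hUV
    exact ⟨U, V, W, hUV, hW, show y ∈ b ⁻¹ᵁ W from hV ▸ hy, hU, hV⟩

end Groth.Agent.Pinch
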