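import Groth.Agent.Pinch.Core

/-! Saturated open pieces of a pinched space. -/

set_option autoImplicit false
set_option backward.isDefEq.respectTransparency false
set_option backward.isDefEq.respectTransparency.types false
set_option linter.style.haveILetI false

universe u

open CategoryTheory Limits AlgebraicGeometry TopologicalSpace Opposite

namespace Groth.Agent.Pinch

variable {Z X Y P : PSh.{u}}

/-- The map on sections between two open subsets. -/
def le (f : X ⟶ Y) (U : Opens Y) (V : Opens X) (h : V ≤ (Opens.map f.base).obj U) :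
    Y.presheaf.obj (op U) ⟶ X.presheaf.obj (op V) :=
  f.c.app (op U) ≫ X.presheaf.map (homOfLE h).op

theorem le_comp (f : X ⟶ Y) (g : Y ⟶ P) (U : Opens P) (V : Opens Y) (W : Opens X)
    (h : V ≤ (Opens.map g.base).obj U) (h' : W ≤ (Opens.map f.base).obj V)
    (h'' : W ≤ (Opens.map (f ≫ g).base).obj U) :
    le g U V h ≫ le f V W h' = le (f ≫ g) U W h'' := by
  simp only [le, Category.assoc, PresheafedSpace.comp_c_app]
  erw [f.c.naturality_assoc]
  exact congrArg _ (congrArg _ (map_eq _ _ _))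

theorem le_congr {f g : X ⟶ Y} (e : f = g) (U : Opens Y) (V : Opens X) (h : V ≤ (Opens.map f.base).obj U) :
    le f U V h = le g U V (e ▸ h) := by
  subst e
  rfl

theorem le_sq {Y' : PSh.{u}} {f : X ⟶ Y} {g : Y ⟶ P} {f' : X ⟶ Y'} {g' : Y' ⟶ P} (e : f ≫ g = f' ≫ g') (U : Opens P)
    (V : Opens Y) (V' : Opens Y') (W : Opens X) (h : V ≤ (Opens.map g.base).obj U)
    (h' : W ≤ (Opens.map f.base).obj V) (k : V' ≤ (Opens.map g'.base).obj U)
    (k' : W ≤ (Opens.map f'.base).obj V') :
    le g U V h ≫ le f V W h' = le g' U V' k ≫ le f' V' W k' := by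
  rw [le_comp f g U V W h h' (fun x hx => h (h' hx)), le_comp f' g' U V' W k k' (fun x hx => k (k' hx)),
    le_congr e]

/-- Sections of a pushout over an open subset, for any names of the preimages. -/
theorem secPB_le {i : Z ⟶ X} {j : Z ⟶ Y} {a : X ⟶ P} {b : Y ⟶ P} (h : IsPushout i j a b) (U : Opens P)
    (A : Opens X) (B : Opens Y) (C : Opens Z) (hA : A = (Opens.map a.base).obj U) (hB : B = (Opens.map b.base).obj U)
    (hC : C = (Opens.map i.base).obj A) (hC' : C ≤ (Opens.map j.base).obj B) :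
    IsPullback (le a U A hA.le) (le b U B hB.le) (le i A C hC.le) (le j B C hC') := by
  subst hC hA hB
  have e1 : le a U _ le_rfl = a.c.app (op U) := by
    simp only [le]; erw [CategoryTheory.Functor.map_id, Category.comp_id]
  have e2 : le b U _ le_rfl = b.c.app (op U) := by
    simp only [le]; erw [CategoryTheory.Functor.map_id, Category.comp_id]
  have e3 : le i ((Opens.map a.base).obj U) _ le_rfl = i.c.app (op ((Opens.map a.base).obj U)) := by
    simp only [le]; erw [CategoryTheory.Functor.map_id, Category.comp_id]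
  have e4 : le j ((Opens.map b.base).obj U) ((Opens.map i.base).obj ((Opens.map a.base).obj U)) hC' =
      j.c.app (op ((Opens.map b.base).obj U)) ≫ Z.presheaf.map (eqToHom (congrArg op
        (map_preimage (congrArg PresheafedSpace.Hom.base h.w) U).symm)) :=
    congrArg (fun m => j.c.app (op ((Opens.map b.base).obj U)) ≫ Z.presheaf.map m) (Subsingleton.elim _ _)
  rw [e1, e2, e3, e4]
  exact secPB_of_isPushout h U

theorem isIso_le (f : X ⟶ Y) [PresheafedSpace.IsOpenImmersion f] (U : Opens Y) (V : Opens X)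
    (h : V ≤ (Opens.map f.base).obj U)
    (hU : (U : Set Y) = f.base '' (V : Set X)) : IsIso (le f U V h) := by
  obtain rfl : U = (PresheafedSpace.IsOpenImmersion.base_open (f := f)).functor.obj V := Opens.ext hU
  haveI := PresheafedSpace.IsOpenImmersion.c_iso (f := f) V
  have : IsIso (homOfLE h) := by
    have e : (Opens.map f.base).obj ((PresheafedSpace.IsOpenImmersion.base_open (f := f)).functor.obj V) = V :=
      Opens.ext (Set.preimage_image_eq _ (PresheafedSpace.IsOpenImmersion.base_open (f := f)).injective)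
    exact ⟨⟨homOfLE e.le, Subsingleton.elim _ _, Subsingleton.elim _ _⟩⟩
  unfold le
  infer_instance

section top
variable {i : Z ⟶ X} {j : Z ⟶ Y} {a : X ⟶ P} {b : Y ⟶ P}

theorem exists_set (top : IsPushout i.base j.base a.base b.base) (SX : Set X) (SY : Set Y)
    (h : i.base ⁻¹' SX = j.base ⁻¹' SY) : ∃ S : Set P, a.base ⁻¹' S = SX ∧ b.base ⁻¹' S = SY := by
  have tT := top.map (forget TopCat.{u})
  let fX : (forget TopCat.{u}).obj X.carrier ⟶ ULift.{u} Prop := ↾(fun x => ⟨x ∈ SX⟩)
  let fY : (forget TopCat.{u}).obj Y.carrier ⟶ ULift.{u} Prop := ↾(fun y => ⟨y ∈ SY⟩)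
  have hw : (forget TopCat.{u}).map i.base ≫ fX = (forget TopCat.{u}).map j.base ≫ fY := by
    ext z
    simpa [fX, fY] using Set.ext_iff.1 h z
  refine ⟨{p | (tT.desc fX fY hw p).down}, Set.ext fun x => ?_, Set.ext fun y => ?_⟩
  · exact (congrArg ULift.down (ConcreteCategory.congr_hom (tT.inl_desc fX fY hw) x)).to_iff
  · exact (congrArg ULift.down (ConcreteCategory.congr_hom (tT.inr_desc fX fY hw) y)).to_iff

theorem isOpen_iff (top : IsPushout i.base j.base a.base b.base) (S : Set P) :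
    IsOpen S ↔ IsOpen (a.base ⁻¹' S) ∧ IsOpen (b.base ⁻¹' S) := by
  rw [TopCat.isOpen_iff_of_isColimit top.cocone top.isColimit]
  refine ⟨fun h => ⟨h .left, h .right⟩, fun ⟨hl, hr⟩ k => ?_⟩
  rcases k with (_ | _ | _)
  · show IsOpen ((i.base ≫ a.base) ⁻¹' S)
    exact hl.preimage i.base.hom.continuous
  · exact hl
  · exact hr

theorem surj_top (top : IsPushout i.base j.base a.base b.base) (p : P) :
    (∃ x, a.base x = p) ∨ ∃ y, b.base y = p := by
  rcases Types.eq_or_eq_of_isPushout (top.map (forget TopCat.{u})) p with ⟨x, hx⟩ | ⟨y, hy⟩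
  · exact Or.inl ⟨x, hx⟩
  · exact Or.inr ⟨y, hy⟩

end top

/-- A map of fibre product squares which is an isomorphism on the three other corners is an isomorphism. -/
theorem isIso_of_squares {C : Type*} [Category C] {P A B D P' A' B' D' : C}
    {a : P ⟶ A} {b : P ⟶ B} {i : A ⟶ D} {j : B ⟶ D} (sq : IsPullback a b i j)
    {a' : P' ⟶ A'} {b' : P' ⟶ B'} {i' : A' ⟶ D'} {j' : B' ⟶ D'} (sq' : IsPullback a' b' i' j')
    (p : P ⟶ P') (x : A ⟶ A') (y : B ⟶ B') (z : D ⟶ D') [IsIso x] [IsIso y] [IsIso z]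
    (c1 : p ≫ a' = a ≫ x) (c2 : p ≫ b' = b ≫ y) (c3 : x ≫ i' = i ≫ z) (c4 : y ≫ j' = j ≫ z) : IsIso p := by
  refine ⟨sq.lift (a' ≫ inv x) (b' ≫ inv y) ?_, sq.hom_ext ?_ ?_, sq'.hom_ext ?_ ?_⟩
  · rw [← cancel_mono z]
    simp only [Category.assoc, ← c3, ← c4, IsIso.inv_hom_id_assoc, sq'.w]
  · simp [reassoc_of% c1]
  · simp [reassoc_of% c2]
  · simp [c1]
  · simp [c2]

/-- The map from the pushout of a saturated open piece is an open immersion. -/
theorem isOpenImmersion_of_saturated {Z' X' Y' P' : PSh.{u}} {i : Z ⟶ X} {j : Z ⟶ Y} {a : X ⟶ P} {b : Y ⟶ P}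
    (h : IsPushout i j a b) {i' : Z' ⟶ X'} {j' : Z' ⟶ Y'} {a' : X' ⟶ P'} {b' : Y' ⟶ P'} (h' : IsPushout i' j' a' b')
    (fZ : Z' ⟶ Z) (fX : X' ⟶ X) (fY : Y' ⟶ Y) [PresheafedSpace.IsOpenImmersion fZ]
    [PresheafedSpace.IsOpenImmersion fX] [PresheafedSpace.IsOpenImmersion fY]
    (hi : fZ ≫ i = i' ≫ fX) (hj : fZ ≫ j = j' ≫ fY)
    (hsX : i.base ⁻¹' Set.range fX.base = Set.range fZ.base) (hsY : j.base ⁻¹' Set.range fY.base = Set.range fZ.base)
    (ψ : P' ⟶ P) (hψX : a' ≫ ψ = fX ≫ a) (hψY : b' ≫ ψ = fY ≫ b) :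
    PresheafedSpace.IsOpenImmersion ψ ∧
      Set.range ψ.base = a.base '' Set.range fX.base ∪ b.base '' Set.range fY.base := by
  haveI : PreservesColimitsOfShape WalkingSpan (PresheafedSpace.forget.{u, u + 1, u} CommRingCat.{u}) := inferInstance
  have top : IsPushout i.base j.base a.base b.base := h.map (PresheafedSpace.forget _)
  have top' : IsPushout i'.base j'.base a'.base b'.base := h'.map (PresheafedSpace.forget _)
  have pX : ∀ x, ψ.base (a'.base x) = a.base (fX.base x) := fun x =>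
    ConcreteCategory.congr_hom (congrArg PresheafedSpace.Hom.base hψX) x
  have pY : ∀ y, ψ.base (b'.base y) = b.base (fY.base y) := fun y =>
    ConcreteCategory.congr_hom (congrArg PresheafedSpace.Hom.base hψY) y
  have piz : ∀ z, i.base (fZ.base z) = fX.base (i'.base z) := fun z =>
    ConcreteCategory.congr_hom (congrArg PresheafedSpace.Hom.base hi) z
  have pjz : ∀ z, j.base (fZ.base z) = fY.base (j'.base z) := fun z =>
    ConcreteCategory.congr_hom (congrArg PresheafedSpace.Hom.base hj) z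
  have pw : ∀ z, a'.base (i'.base z) = b'.base (j'.base z) := fun z =>
    ConcreteCategory.congr_hom top'.w z
  have injX := (PresheafedSpace.IsOpenImmersion.base_open (f := fX)).injective
  have injY := (PresheafedSpace.IsOpenImmersion.base_open (f := fY)).injective
  have injZ := (PresheafedSpace.IsOpenImmersion.base_open (f := fZ)).injective
  -- images of subsets
  have himg : ∀ O : Set P', a.base ⁻¹' (ψ.base '' O) = fX.base '' (a'.base ⁻¹' O) ∧
      b.base ⁻¹' (ψ.base '' O) = fY.base '' (b'.base ⁻¹' O) ∧ ψ.base ⁻¹' (ψ.base '' O) = O := by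
    intro O
    obtain ⟨S, hSX, hSY⟩ := exists_set top (fX.base '' (a'.base ⁻¹' O)) (fY.base '' (b'.base ⁻¹' O)) (by
      ext z
      constructor
      · rintro ⟨x, hx, hxz⟩
        obtain ⟨z', rfl⟩ : z ∈ Set.range fZ.base := hsX ▸ (⟨x, hxz⟩ : i.base z ∈ Set.range fX.base)
        refine ⟨j'.base z', ?_, (pjz z').symm⟩
        rw [piz] at hxz
        rw [injX hxz] at hx
        show b'.base (j'.base z') ∈ O
        rw [← pw]; exact hx
      · rintro ⟨y, hy, hyz⟩
        obtain ⟨z', rfl⟩ : z ∈ Set.range fZ.base := hsY ▸ (⟨y, hyz⟩ : j.base z ∈ Set.range fY.base)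
        refine ⟨i'.base z', ?_, (piz z').symm⟩
        rw [pjz] at hyz
        rw [injY hyz] at hy
        show a'.base (i'.base z') ∈ O
        rw [pw]; exact hy)
    have hS : ∀ p', ψ.base p' ∈ S ↔ p' ∈ O := fun p' => by
      rcases surj_top top' p' with ⟨x, rfl⟩ | ⟨y, rfl⟩
      · rw [pX, show a.base (fX.base x) ∈ S ↔ fX.base x ∈ a.base ⁻¹' S from Iff.rfl, hSX, injX.mem_set_image]
        rfl
      · rw [pY, show b.base (fY.base y) ∈ S ↔ fY.base y ∈ b.base ⁻¹' S from Iff.rfl, hSY, injY.mem_set_image]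
        rfl
    have hSO : S = ψ.base '' O := by
      refine Set.Subset.antisymm (fun p hp => ?_) (Set.image_subset_iff.2 fun p' hp' => (hS p').2 hp')
      rcases surj_top top p with ⟨x, rfl⟩ | ⟨y, rfl⟩
      · obtain ⟨x', hx', rfl⟩ := hSX.le hp
        exact ⟨a'.base x', hx', pX x'⟩
      · obtain ⟨y', hy', rfl⟩ := hSY.le hp
        exact ⟨b'.base y', hy', pY y'⟩
    subst hSO
    exact ⟨hSX, hSY, Set.ext hS⟩
  have hinj : Function.Injective ψ.base := fun p q hpq => by
    have := (himg {q}).2.2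
    exact this.le (⟨q, rfl, hpq.symm⟩ : ψ.base p ∈ ψ.base '' {q})
  have hopen : IsOpenMap ψ.base := fun O hO => by
    rw [isOpen_iff top, (himg O).1, (himg O).2.1]
    exact ⟨(PresheafedSpace.IsOpenImmersion.base_open (f := fX)).isOpenMap _ (hO.preimage a'.base.hom.continuous),
      (PresheafedSpace.IsOpenImmersion.base_open (f := fY)).isOpenMap _ (hO.preimage b'.base.hom.continuous)⟩
  have hemb : Topology.IsOpenEmbedding ψ.base :=
    Topology.IsOpenEmbedding.of_continuous_injective_isOpenMap ψ.base.hom.continuous hinj hopen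
  refine ⟨⟨hemb, fun O => ?_⟩, ?_⟩
  · let S : Opens P := hemb.functor.obj O
    let A : Opens X := (Opens.map a.base).obj S
    let B : Opens Y := (Opens.map b.base).obj S
    let C : Opens Z := (Opens.map i.base).obj A
    let A' : Opens X' := (Opens.map a'.base).obj O
    let B' : Opens Y' := (Opens.map b'.base).obj O
    let C' : Opens Z' := (Opens.map i'.base).obj A'
    have hC : C = (Opens.map j.base).obj B := map_preimage top.w S
    have hC' : C' = (Opens.map j'.base).obj B' := map_preimage top'.w O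
    have hO : O ≤ (Opens.map ψ.base).obj S := fun p hp => ⟨p, hp, rfl⟩
    have hA : A' ≤ (Opens.map fX.base).obj A := fun x hx => ⟨a'.base x, hx, pX x⟩
    have hB : B' ≤ (Opens.map fY.base).obj B := fun y hy => ⟨b'.base y, hy, pY y⟩
    have hCC : C' ≤ (Opens.map fZ.base).obj C := fun z hz => by
      show i.base (fZ.base z) ∈ A
      rw [piz]; exact hA hz
    haveI := isIso_le fX A A' hA (himg O).1
    haveI := isIso_le fY B B' hB (himg O).2.1
    haveI := isIso_le fZ C C' hCC (by
      ext z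
      constructor
      · intro hz
        obtain ⟨x, hx, hxz⟩ := (himg O).1.le hz
        obtain ⟨z', rfl⟩ : z ∈ Set.range fZ.base := hsX ▸ (⟨x, hxz⟩ : i.base z ∈ Set.range fX.base)
        refine ⟨z', ?_, rfl⟩
        rw [piz] at hxz
        show i'.base z' ∈ A'
        exact injX hxz ▸ hx
      · rintro ⟨z', hz', rfl⟩; exact hCC hz')
    have sq := secPB_le h S A B C rfl rfl rfl hC.le
    have sq' := secPB_le h' O A' B' C' rfl rfl rfl hC'.le
    have c1 := le_sq hψX S O A A' hO le_rfl le_rfl hA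
    have c2 := le_sq hψY S O B B' hO le_rfl le_rfl hB
    have c3 := le_sq hi.symm A A' C C' hA le_rfl le_rfl hCC
    have c4 := le_sq hj.symm B B' C C' hB hC'.le hC.le hCC
    haveI : IsIso (le ψ S O hO) := isIso_of_squares sq sq' _ _ _ _ c1 c2 c3 c4
    haveI : IsIso (P'.presheaf.map (homOfLE hO).op) := by
      have e : (Opens.map ψ.base).obj S ≤ O := fun p hp => (himg O).2.2.le hp
      exact ⟨P'.presheaf.map (homOfLE e).op, map_map_self _ _, map_map_self _ _⟩
    haveI : IsIso (ψ.c.app (op S) ≫ P'.presheaf.map (homOfLE hO).op) := ‹IsIso (le ψ S O hO)›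
    exact IsIso.of_isIso_comp_right (ψ.c.app (op S)) (P'.presheaf.map (homOfLE hO).op)
  · refine Set.Subset.antisymm ?_ ?_
    · rintro _ ⟨p', rfl⟩
      rcases surj_top top' p' with ⟨x, rfl⟩ | ⟨y, rfl⟩
      · exact Or.inl ⟨_, ⟨x, rfl⟩, (pX x).symm⟩
      · exact Or.inr ⟨_, ⟨y, rfl⟩, (pY y).symm⟩
    · rintro p (⟨_, ⟨x, rfl⟩, rfl⟩ | ⟨_, ⟨y, rfl⟩, rfl⟩)
      · exact ⟨_, pX x⟩
      · exact ⟨_, pY y⟩

end Groth.Agent.Pinch
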